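import Cfsg.Agent.Lib.BrauerOrder.TorusInner
import Cfsg.Agent.Lib.RankTwoModel.FieldTransfer
import Cfsg.Agent.Lib.CharTheory.AbelianInertia
import Cfsg.Agent.Lib.CharTheory.CyclicTI2

/-!
# Induction twisted by a consistent character of the centraliser

`θ` is a character of odd exponent of the centraliser of the involution which is consistent under fusion;
`ext θ` is its class function on the group, `upT θ f` the induced function of `θ f`.

Blueprint: `blueprint/RankTwo_P9.md`.
-/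

set_option autoImplicit false
set_option linter.unusedSectionVars false
set_option linter.style.haveILetI false

namespace CfsgLib.BrauerTwist

open Cfsg CfsgLib.CharTheory CfsgLib.BrauerOrder CfsgLib.Blocks CfsgLib.Blocks.AbelianFree
open scoped ComplexConjugate

universe u v

variable {G : Type u} [Group G] [Fintype G] {z : G}

/-- A consistent character of odd exponent `r`. -/
structure IsField (θ : Cz z →* ℂˣ) (r : ℕ) : Prop where
  cons : RankTwoModel.FieldTransfer.Consistent θ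
  odd : Odd r
  pow : ∀ c, θ c ^ r = 1

theorem IsField.one : IsField (1 : Cz z →* ℂˣ) 1 := ⟨fun _ _ _ _ => rfl, odd_one, fun _ => by simp⟩

open Classical in
/-- The class function of a consistent character. -/
noncomputable def ext (θ : Cz z →* ℂˣ) (x : G) : ℂ :=
  if h : ∃ g : G, g⁻¹ * x * g ∈ Subgroup.centralizer ({z} : Set G) then (θ ⟨_, h.choose_spec⟩ : ℂ) else 1

/-- The twisted function. -/
def tw (θ : Cz z →* ℂˣ) (f : Cz z → ℂ) : Cz z → ℂ := fun c => (θ c : ℂ) * f c

/-- A class function of the group divided by the character. -/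
noncomputable def untw (θ : Cz z →* ℂˣ) (χ : G → ℂ) : G → ℂ := fun x => conj (ext θ x) * χ x

/-- Its restriction. -/
noncomputable def res (θ : Cz z →* ℂˣ) (χ : G → ℂ) : Cz z → ℂ := fun c => conj (θ c : ℂ) * χ c

variable [Fintype (Cz z)]

/-- The induced function of the twisted function. -/
noncomputable def upT (θ : Cz z →* ℂˣ) (f : Cz z → ℂ) : G → ℂ :=
  indFun (Subgroup.centralizer ({z} : Set G)) (tw θ f)

theorem upT_sub (θ : Cz z →* ℂˣ) (f g : Cz z → ℂ) : upT θ (f - g) = upT θ f - upT θ g := by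
  rw [upT, upT, upT, ← indFun_sub]
  congr 1
  funext c
  simp only [tw, Pi.sub_apply]
  ring

theorem theta_conj (θ : Cz z →* ℂˣ) (x g : Cz z) : θ (x * g * x⁻¹) = θ g := by
  rw [map_mul, map_mul, map_inv, mul_comm (θ x), mul_inv_cancel_right]

theorem norm_theta (θ : Cz z →* ℂˣ) (c : Cz z) : (θ c : ℂ) * conj (θ c : ℂ) = 1 := by
  rw [conj_hom_apply, ← Units.val_mul, ← map_mul, mul_inv_cancel, map_one, Units.val_one]

theorem inner_tw (θ : Cz z →* ℂˣ) (f g : Cz z → ℂ) : classInner (tw θ f) (tw θ g) = classInner f g := by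
  refine congrArg _ (Finset.sum_congr rfl fun c _ => ?_)
  simp only [tw, map_mul]
  linear_combination (f c * conj (g c)) * norm_theta θ c

theorem tw_classFun (θ : Cz z →* ℂˣ) {f : Cz z → ℂ} (hf : IsClassFunction (Cz z) f) :
    IsClassFunction (Cz z) (tw θ f) := fun g x => by
  simp only [tw, hf g x, theta_conj]

theorem tw_gen (θ : Cz z →* ℂˣ) {f : Cz z → ℂ} (hf : IsGeneralizedCharacter (Cz z) f) :
    IsGeneralizedCharacter (Cz z) (tw θ f) :=
  isGenChar_mul (a := fun c => (θ c : ℂ))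
    (isGenChar_of_char (isCharacter_of_irr (isIrrCharacter_linear θ))) hf

theorem tw_signed (θ : Cz z →* ℂˣ) {f : Cz z → ℂ} (hf : IsSignedIrr f) : IsSignedIrr (tw θ f) := by
  have key : ∀ {a : Cz z → ℂ}, IsIrrCharacter (Cz z) a → IsIrrCharacter (Cz z) (tw θ a) := fun {a} ha => by
    have h := isIrrCharacter_mul_linear ha (isIrrCharacter_linear θ) (by simp)
    have e : tw θ a = a * fun c => (θ c : ℂ) := by funext c; simp [tw, mul_comm]
    rwa [e]
  rcases hf with h | h
  · exact Or.inl (key h)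
  · refine Or.inr ?_
    have e : -tw θ f = tw θ (-f) := by funext c; simp [tw]
    rw [e]
    exact key h

theorem upT_gen (θ : Cz z →* ℂˣ) {f : Cz z → ℂ} (hf : IsGeneralizedCharacter (Cz z) f) :
    IsGeneralizedCharacter G (upT θ f) := isGenChar_indFun _ (tw_gen θ hf)

theorem inner_upT_left (θ : Cz z →* ℂˣ) (f : Cz z → ℂ) {χ : G → ℂ} (hχ : IsClassFunction G χ) :
    classInner (upT θ f) χ = classInner f (res θ χ) := by
  rw [upT, frobenius_reciprocity _ _ hχ]
  refine congrArg _ (Finset.sum_congr rfl fun c _ => ?_)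
  simp only [tw, res, map_mul, Complex.conj_conj]
  ring

theorem res_classFun (θ : Cz z →* ℂˣ) {χ : G → ℂ} (hχ : IsClassFunction G χ) :
    IsClassFunction (Cz z) (res θ χ) := fun g x => by
  simp only [res, theta_conj, Subgroup.coe_mul, Subgroup.coe_inv, hχ (g : G) (x : G)]

theorem res_gen (θ : Cz z →* ℂˣ) {χ : G → ℂ} (hχ : IsGeneralizedCharacter G χ) :
    IsGeneralizedCharacter (Cz z) (res θ χ) := by
  have e : res θ χ = (fun c => ((θ⁻¹ c : ℂˣ) : ℂ)) * fun c : Cz z => χ c := by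
    funext c
    simp only [res, Pi.mul_apply, MonoidHom.inv_apply, conj_hom_apply, map_inv]
  rw [e]
  exact isGenChar_mul (isGenChar_of_char (isCharacter_of_irr (isIrrCharacter_linear θ⁻¹)))
    (isGenChar_comp hχ (Subgroup.subtype _))

section Field

variable {θ : Cz z →* ℂˣ} {r : ℕ} (hθ : IsField θ r)
include hθ

theorem ext_coe (a : Cz z) : ext θ (a : G) = (θ a : ℂ) := by
  have h : ∃ g : G, g⁻¹ * (a : G) * g ∈ Subgroup.centralizer ({z} : Set G) := ⟨1, by simpa using a.2⟩
  rw [ext, dif_pos h, hθ.cons h.choose (a : G) a.2 h.choose_spec]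

theorem ext_classFun : IsClassFunction G (ext θ) := by
  intro x k
  by_cases h : ∃ g : G, g⁻¹ * x * g ∈ Subgroup.centralizer ({z} : Set G)
  · have h' : ∃ g : G, g⁻¹ * (k * x * k⁻¹) * g ∈ Subgroup.centralizer ({z} : Set G) := by
      obtain ⟨g, hg⟩ := h
      refine ⟨k * g, ?_⟩
      rwa [show (k * g)⁻¹ * (k * x * k⁻¹) * (k * g) = g⁻¹ * x * g by group]
    rw [ext, ext, dif_pos h, dif_pos h']
    have e : (h.choose⁻¹ * k⁻¹ * h'.choose)⁻¹ * (h.choose⁻¹ * x * h.choose) * (h.choose⁻¹ * k⁻¹ * h'.choose) =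
        h'.choose⁻¹ * (k * x * k⁻¹) * h'.choose := by group
    have hmem : (h.choose⁻¹ * k⁻¹ * h'.choose)⁻¹ * (h.choose⁻¹ * x * h.choose) * (h.choose⁻¹ * k⁻¹ * h'.choose) ∈
        Subgroup.centralizer ({z} : Set G) := e.symm ▸ h'.choose_spec
    rw [← hθ.cons _ _ h.choose_spec hmem]
    exact congrArg (fun a : Cz z => (θ a : ℂ)) (Subtype.ext e.symm)
  · rw [ext, ext, dif_neg h, dif_neg]
    rintro ⟨g, hg⟩
    exact h ⟨k⁻¹ * g, by rwa [show (k⁻¹ * g)⁻¹ * x * (k⁻¹ * g) = g⁻¹ * (k * x * k⁻¹) * g by group]⟩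

theorem untw_classFun {χ : G → ℂ} (hχ : IsClassFunction G χ) : IsClassFunction G (untw θ χ) := fun x k => by
  simp only [untw, ext_classFun hθ x k, hχ x k]

theorem res_eq (χ : G → ℂ) : res θ χ = fun c : Cz z => untw θ χ c := by
  funext c
  rw [untw, ext_coe hθ, res]

theorem two_trivial {c : Cz z} (hc : ∃ k : ℕ, orderOf c = 2 ^ k) : θ c = 1 := by
  obtain ⟨k, hk⟩ := hc
  have hcop : Nat.Coprime (2 ^ k) r := (Nat.coprime_two_left.mpr hθ.odd).pow_left k
  rw [← pow_one (θ c), ← hcop.gcd_eq_one]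
  exact pow_gcd_eq_one.mpr ⟨by rw [← map_pow, ← hk, pow_orderOf_eq_one, map_one], hθ.pow c⟩

end Field

variable {Ω : Type v} [MulAction (Cz z) Ω] {D : Sys G z}

theorem supp_tw (θ : Cz z →* ℂˣ) {f : Cz z → ℂ} (hf : D.Supp f) : D.Supp (tw θ f) := fun x hx => by
  simp only [tw, hf x hx, mul_zero]

variable (hD : D.Spec Ω)
include hD

theorem inner_upT (θ : Cz z →* ℂˣ) {f f' : Cz z → ℂ} (hf : D.Supp f) (hf' : D.Supp f')
    (hc' : IsClassFunction (Cz z) f') : classInner (upT θ f) (upT θ f') = classInner f f' :=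
  (inner_up hD (supp_tw θ hf) (supp_tw θ hf') (tw_classFun θ hc')).trans (inner_tw θ f f')

theorem upT_one (θ : Cz z →* ℂˣ) {f : Cz z → ℂ} (hf : D.Supp f) : upT θ f 1 = 0 :=
  up_one hD (supp_tw θ hf)

theorem upT_regular (θ : Cz z →* ℂˣ) {f : Cz z → ℂ} (hf : D.Supp f) {g : G} (hg : ¬ 2 ∣ orderOf g) :
    upT θ f g = 0 := up_regular hD (supp_tw θ hf) hg

omit hD in
theorem upT_one_eq (f : Cz z → ℂ) : upT (1 : Cz z →* ℂˣ) f = D.up f := by
  rw [upT, Sys.up]
  congr 1
  funext c
  simp [tw]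

open Classical in
/-- The average against a character of the torus, for a function with a generalized restriction. -/
theorem I_intT {r : ↥(D.core.T true) ≃* ↥(D.core.T true)} {g : G} (_hr : D.Auto r g) {φ : Cz z → ℂ}
    (hφ : IsGeneralizedCharacter (Cz z) φ) (τ : ↥(D.core.T true) →* ℂˣ) :
    ∃ n : ℤ, (Nat.card (D.core.T true) : ℂ)⁻¹ *
      ∑ t : ↥(D.core.T true), Fav D φ t * (conj ((τ t : ℂˣ) : ℂ) - 1) = n := by
  obtain ⟨K, hKn, hK, hidx⟩ := hD.core.cent true D.w hD.wT hD.wZ
  obtain ⟨a, ha⟩ := card_T_pow hD.core true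
  haveI : K.Normal := hKn
  have hUH : D.core.T true ≤ Subgroup.centralizer ({D.w} : Set (Cz z)) := fun t ht =>
    Subgroup.mem_centralizer_singleton_iff.2 (hD.core.tcomm true t ht D.w hD.wT)
  let ι : ↥(D.core.T true) →* ↥(Subgroup.centralizer ({D.w} : Set (Cz z))) ⧸ K :=
    (QuotientGroup.mk' K).comp (Subgroup.inclusion hUH)
  have hι : Function.Bijective ι := by
    refine (Nat.bijective_iff_injective_and_card _).2 ⟨(injective_iff_map_eq_one _).2 fun t ht => ?_, ?_⟩
    · have h1 : Subgroup.inclusion hUH t ∈ K := (QuotientGroup.eq_one_iff _).1 ht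
      have h2 := (mem_iff_regular Nat.prime_two hK (hidx.trans ha) _).1 h1
      rw [← Subgroup.orderOf_coe] at h2
      obtain ⟨k, hk⟩ := two_of_mem hD.core t.2
      exact Subtype.ext (odd_pow_two hk h2)
    · rw [← Subgroup.index_eq_card, hidx]
  let e : ↥(D.core.T true) ≃* ↥(Subgroup.centralizer ({D.w} : Set (Cz z))) ⧸ K := MulEquiv.ofBijective ι hι
  let T : ↥(Subgroup.centralizer ({D.w} : Set (Cz z))) →* ℂˣ :=
    τ.comp (e.symm.toMonoidHom.comp (QuotientGroup.mk' K))
  have hT : ∀ (t : ↥(D.core.T true)) (k : K), T (Subgroup.inclusion hUH t * k) = τ t := by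
    intro t k
    show τ (e.symm ((QuotientGroup.mk' K) (Subgroup.inclusion hUH t * k))) = τ t
    rw [map_mul, show (QuotientGroup.mk' K) (k : ↥(Subgroup.centralizer ({D.w} : Set (Cz z)))) = 1 from
      (QuotientGroup.eq_one_iff _).2 k.2, mul_one]
    exact congrArg τ (e.symm_apply_apply t)
  letI : Fintype ↥(Subgroup.centralizer ({D.w} : Set (Cz z))) := Fintype.ofFinite _
  have hb : IsGeneralizedCharacter ↥(Subgroup.centralizer ({D.w} : Set (Cz z)))
      (fun h : ↥(Subgroup.centralizer ({D.w} : Set (Cz z))) => ((T h : ℂˣ) : ℂ) - 1) :=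
    isGenChar_sub (isGenChar_of_char (isCharacter_of_irr (isIrrCharacter_linear T)))
      (isGenChar_of_char (isCharacter_of_irr isIrrCharacter_one))
  obtain ⟨n, hn⟩ := classInner_genChar_int
    (isGenChar_comp hφ (Subgroup.centralizer ({D.w} : Set (Cz z))).subtype) hb
  refine ⟨n, hn ▸ ?_⟩
  let Φ : ↥(D.core.T true) × K → ↥(Subgroup.centralizer ({D.w} : Set (Cz z))) :=
    fun p => Subgroup.inclusion hUH p.1 * p.2
  have hΦ : Function.Bijective Φ := by
    constructor
    · rintro ⟨t, k⟩ ⟨t', k'⟩ e1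
      have e2 : ι t = ι t' := by
        have h3 := congrArg (QuotientGroup.mk' K) e1
        simp only [Φ, map_mul] at h3
        rw [show (QuotientGroup.mk' K) k.1 = 1 from (QuotientGroup.eq_one_iff _).2 k.2,
          show (QuotientGroup.mk' K) k'.1 = 1 from (QuotientGroup.eq_one_iff _).2 k'.2, mul_one, mul_one] at h3
        exact h3
      obtain rfl := hι.1 e2
      exact Prod.ext rfl (Subtype.ext (mul_left_cancel e1))
    · intro h
      obtain ⟨t, ht⟩ := hι.2 (QuotientGroup.mk' K h)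
      refine ⟨⟨t, (Subgroup.inclusion hUH t)⁻¹ * h, ?_⟩, by simp [Φ]⟩
      exact QuotientGroup.eq.1 ht
  have hcard : (regC 2 D.w).card = Nat.card K := by
    rw [Finset.card_eq_sum_ones, sum_regC Nat.prime_two hK (hidx.trans ha), ← Finset.card_eq_sum_ones,
      Finset.card_univ, Nat.card_eq_fintype_card]
  rw [classInner, ← Fintype.sum_bijective Φ hΦ _ _ (fun p => rfl), Fintype.sum_prod_type,
    ← Nat.card_congr (Equiv.ofBijective Φ hΦ), Nat.card_prod, Nat.cast_mul, mul_inv, Finset.mul_sum,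
    Finset.mul_sum]
  refine Finset.sum_congr rfl fun t _ => ?_
  rw [Fav, sum_regC Nat.prime_two hK (hidx.trans ha), hcard, mul_assoc, mul_assoc]
  refine congrArg _ (congrArg _ ?_)
  rw [Finset.sum_mul]
  refine Finset.sum_congr rfl fun k _ => ?_
  simp only [Φ, hT, map_sub, map_one]
  rfl

open Classical in
/-- The induced twisted sums of the torus with the four-group are generalized characters. -/
theorem fT_genT {θ : Cz z →* ℂˣ} {k : ℕ} (hθ : IsField θ k)
    (hgen : ∀ (b : Bool) (τ : ↥(D.core.T b) →* ℂˣ), IsGeneralizedCharacter (Cz z) (D.core.R Ω b τ))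
    {r : ↥(D.core.T true) ≃* ↥(D.core.T true)} {g : G} (hr : D.Auto r g) (τ : ↥(D.core.T true) →* ℂˣ) :
    IsGeneralizedCharacter G (upT θ (fT Ω r τ)) := by
  refine isGenChar_iff_coeff_int.2 ⟨indFun_isClassFunction _ _, fun χ hχ => ?_⟩
  have hres := res_gen θ (isGenChar_of_char (isCharacter_of_irr hχ))
  rw [inner_upT_left θ _ (isClassFunction_irr hχ), ← classInner_comm, res_eq hθ,
    inner_fT hD hr (untw_classFun hθ (isClassFunction_irr hχ))]
  have hg : IsGeneralizedCharacter (Cz z) (gT Ω r τ) :=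
    isGenChar_sub (isGenChar_add (isGenChar_add (hgen _ _) (hgen _ _)) (hgen _ _))
      (by simpa using isGenChar_intSmul (3 : ℤ) (hgen true 1))
  rw [res_eq hθ] at hres
  obtain ⟨a, ha⟩ := classInner_genChar_int hres hg
  obtain ⟨b, hb⟩ := I_intT hD hr hres τ
  exact ⟨a - 2 * b, by rw [ha, hb]; simp [map_ofNat]⟩

end CfsgLib.BrauerTwist
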