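import Cfsg.Agent.Lib.BrauerTwist.Six

/-!
# The coordinates of the cyclic torus in the twisted system

Without a principal character one more coordinate is free; it is fixed by comparing several differences.

Blueprint: `blueprint/RankTwo_P9.md`.
-/

set_option autoImplicit false
set_option linter.unusedSectionVars false
set_option linter.style.haveILetI false
set_option linter.unusedTactic false
set_option linter.unreachableTactic false

namespace CfsgLib.BrauerTwist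

open Cfsg CfsgLib.CharTheory CfsgLib.BrauerOrder CfsgLib.Blocks
open scoped ComplexConjugate

universe u v

section Lattice

theorem sq_le_three {a : ℤ} (h : a ^ 2 ≤ 3) : -1 ≤ a ∧ a ≤ 1 := by constructor <;> nlinarith

/-- The squared norm of a difference with a fixed character. -/
def nrmW (a b c : ℤ) : ℤ := a ^ 2 + b ^ 2 + (a - b) ^ 2 + c ^ 2 + (a + c) ^ 2 + (b + c) ^ 2

/-- The vectors of norm at most three of a nonfixed character. -/
theorem opts_A {a b c : ℤ} (h : a ^ 2 + b ^ 2 + (1 + a - b) ^ 2 + c ^ 2 + (-2 - a - c) ^ 2 + (-1 - b - c) ^ 2 ≤ 3) :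
    (a = -1 ∧ b = 0 ∧ c = -1) ∨ (a = 0 ∧ b = 0 ∧ c = -1) ∨ (a = -1 ∧ b = 0 ∧ c = 0) := by
  have q1 := sq_nonneg (1 + a - b)
  have q2 := sq_nonneg (-2 - a - c)
  have q3 := sq_nonneg (-1 - b - c)
  have q4 := sq_nonneg a
  have q5 := sq_nonneg b
  have q6 := sq_nonneg c
  obtain ⟨a1, a2⟩ := sq_le_three (a := a) (by linarith)
  obtain ⟨b1, b2⟩ := sq_le_three (a := b) (by linarith)
  obtain ⟨c1, c2⟩ := sq_le_three (a := c) (by linarith)
  interval_cases a <;> interval_cases b <;> interval_cases c <;>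
    first
      | (norm_num at h; done)
      | norm_num

theorem nrmW_bounds {a b c : ℤ} (h : nrmW a b c ≤ 3) :
    (-1 ≤ a ∧ a ≤ 1) ∧ (-1 ≤ b ∧ b ≤ 1) ∧ (-1 ≤ c ∧ c ≤ 1) := by
  simp only [nrmW] at h
  have q1 := sq_nonneg (a - b)
  have q2 := sq_nonneg (a + c)
  have q3 := sq_nonneg (b + c)
  have q4 := sq_nonneg a
  have q5 := sq_nonneg b
  have q6 := sq_nonneg c
  exact ⟨sq_le_three (by linarith), sq_le_three (by linarith), sq_le_three (by linarith)⟩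

/-- The vectors of norm at most three of a difference with a fixed character. -/
theorem opts_W {a b c : ℤ} (h : nrmW a b c ≤ 3) : (a = 0 ∧ b = 0 ∧ c = 0) ∨ nrmW a b c = 3 := by
  obtain ⟨⟨a1, a2⟩, ⟨b1, b2⟩, c1, c2⟩ := nrmW_bounds h
  simp only [nrmW] at h ⊢
  interval_cases a <;> interval_cases b <;> interval_cases c <;>
    first
      | (norm_num at h; done)
      | norm_num

/-- The three ways of meeting a column with product one. -/
theorem opts_W_one {a b c : ℤ} (h : nrmW a b c ≤ 3) :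
    (2 * a - b = 1 → (a = 0 ∧ b = -1 ∧ c = 0) ∨ (a = 1 ∧ b = 1 ∧ c = -1)) ∧
    (b + 2 * c = 1 → (a = 0 ∧ b = 1 ∧ c = 0) ∨ (a = -1 ∧ b = -1 ∧ c = 1)) ∧
    (a + c = -1 → (a = 0 ∧ b = 0 ∧ c = -1) ∨ (a = -1 ∧ b = 0 ∧ c = 0)) := by
  obtain ⟨⟨a1, a2⟩, ⟨b1, b2⟩, c1, c2⟩ := nrmW_bounds h
  simp only [nrmW] at h
  interval_cases a <;> interval_cases b <;> interval_cases c <;>
    first
      | (norm_num at h; done)
      | norm_num

end Lattice

variable {G : Type u} [Group G] [Fintype G] {z : G} [Fintype (Cz z)] {Ω : Type v} [MulAction (Cz z) Ω]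
  {D : Sys G z} (hD : D.Spec Ω) {θ : Cz z →* ℂˣ} {x : Fin 6 → G → ℂ}

/-- The induced twisted difference of two functions of the cyclic torus. -/
noncomputable def Vt (D : Sys G z) (Ω : Type v) [MulAction (Cz z) Ω] (θ : Cz z →* ℂˣ)
    (φ ψ : ↥(D.core.T false) →* ℂˣ) : G → ℂ :=
  upT θ (D.core.R Ω false φ - D.core.R Ω false ψ)

include hD

theorem inner_Vt (φ ψ φ' ψ' : ↥(D.core.T false) →* ℂˣ) :
    classInner (Vt D Ω θ φ ψ) (Vt D Ω θ φ' ψ') =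
      classInner (D.core.R Ω false φ) (D.core.R Ω false φ') - classInner (D.core.R Ω false φ) (D.core.R Ω false ψ')
        - (classInner (D.core.R Ω false ψ) (D.core.R Ω false φ') -
            classInner (D.core.R Ω false ψ) (D.core.R Ω false ψ')) := by
  rw [Vt, Vt, inner_upT hD θ (supp_RN hD _ _) (supp_RN hD _ _)
    (isClassFunction_sub (R_isClassFunction hD.core _ _) (R_isClassFunction hD.core _ _)),
    classInner_sub_left, classInner_sub_right, classInner_sub_right]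

/-- A saturated combination vanishing at `1`. -/
theorem degree_rel {n B C : ℤ} (hd : x 0 1 = (n : ℂ) ∧ x 1 1 = ((n - B : ℤ) : ℂ) ∧ x 2 1 = (B : ℂ) ∧
    x 3 1 = (C : ℂ) ∧ x 4 1 = ((-n - C : ℤ) : ℂ) ∧ x 5 1 = ((B - n - C : ℤ) : ℂ)) (ho : Orth6 x)
    {φ : G → ℂ} (hφ : IsGeneralizedCharacter G φ) (h1 : φ 1 = 0) {c : Fin 6 → ℤ}
    (hc : ∀ i, classInner φ (x i) = (c i : ℂ)) {N : ℤ} (hN : classInner φ φ = (N : ℂ))
    (hs : c 0 ^ 2 + c 1 ^ 2 + c 2 ^ 2 + c 3 ^ 2 + c 4 ^ 2 + c 5 ^ 2 = N) :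
    c 0 * n + c 1 * (n - B) + c 2 * B + c 3 * C + c 4 * (-n - C) + c 5 * (B - n - C) = 0 := by
  obtain ⟨-, h⟩ := bessel ho hφ hc hN
  have h' := congrFun (h (by rw [Fin.sum_univ_six]; exact hs)) 1
  obtain ⟨d0, d1, d2, d3, d4, d5⟩ := hd
  rw [h1, Fin.sum_univ_six] at h'
  simp only [Pi.add_apply, Pi.smul_apply, smul_eq_mul, d0, d1, d2, d3, d4, d5] at h'
  exact_mod_cast h'.symm

variable (hgen : ∀ (b : Bool) (τ : ↥(D.core.T b) →* ℂˣ), IsGeneralizedCharacter (Cz z) (D.core.R Ω b τ))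
  (hx : SixT D Ω θ x)

include hgen in
theorem Vt_gen (φ ψ : ↥(D.core.T false) →* ℂˣ) : IsGeneralizedCharacter G (Vt D Ω θ φ ψ) :=
  upT_gen θ (isGenChar_sub (hgen _ _) (hgen _ _))

include hx

open Classical in
/-- The linear equations for the coordinates of `Vt φ ψ`. -/
theorem Vt_eqs (φ ψ : ↥(D.core.T false) →* ℂˣ) {c : Fin 6 → ℤ}
    (hc : ∀ i, classInner (Vt D Ω θ φ ψ) (x i) = (c i : ℂ)) :
    -c 0 + c 1 + c 2 = (-(if φ = 1 then 1 else 0) + (if φ = D.lamT false then 1 else 0)) -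
      (-(if ψ = 1 then 1 else 0) + (if ψ = D.lamT false then 1 else 0)) ∧
    c 1 + c 3 + c 5 = ((if φ = 1 then 1 else 0) - (if φ = D.lamT false then 1 else 0)) -
      ((if ψ = 1 then 1 else 0) - (if ψ = D.lamT false then 1 else 0)) ∧
    -(c 0 + c 4 + c 3) = ((if Sys.ThOrbit hD φ then 1 else 0) - 2 * (if φ = 1 then 1 else 0)) -
      ((if Sys.ThOrbit hD ψ then 1 else 0) - 2 * (if ψ = 1 then 1 else 0)) := by
  obtain ⟨-, a2, a3, a4⟩ := inner_RN_th hD φ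
  obtain ⟨-, b2, b3, b4⟩ := inner_RN_th hD ψ
  obtain ⟨s1, s1', s2⟩ := supp_th hD
  obtain ⟨f1, f1', f2⟩ := classFun_th hD
  have k1 := inner_upT hD θ (supp_RN hD φ ψ) s1 f1
  have k2 := inner_upT hD θ (supp_RN hD φ ψ) s1' f1'
  have k3 := inner_upT hD θ (supp_RN hD φ ψ) s2 f2
  rw [← Vt] at k1 k2 k3
  rw [hx.th1, classInner_add_right, classInner_add_right, classInner_neg_right, hc, hc, hc, classInner_sub_left,
    a2, b2] at k1
  rw [hx.th1', classInner_add_right, classInner_add_right, hc, hc, hc, classInner_sub_left, a3, b3] at k2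
  rw [hx.th2, classInner_neg_right, classInner_add_right, classInner_add_right, hc, hc, hc, classInner_sub_left,
    a4, b4] at k3
  refine ⟨?_, ?_, ?_⟩
  · apply Int.cast_injective (α := ℂ); push_cast; exact k1
  · apply Int.cast_injective (α := ℂ); push_cast; exact k2
  · apply Int.cast_injective (α := ℂ); push_cast; exact k3

include hgen

/-- The possible columns of a nonfixed character outside the orbit of `θ`. -/
theorem Vt_options {φ : ↥(D.core.T false) →* ℂˣ} (hf : D.core.conjChar (hD.core.nnorm false) φ ≠ φ)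
    (ho : ¬ Sys.ThOrbit hD φ) :
    classInner (Vt D Ω θ φ 1) (Vt D Ω θ φ 1) = ((3 : ℤ) : ℂ) ∧
    ∃ c : Fin 6 → ℤ, (∀ i, classInner (Vt D Ω θ φ 1) (x i) = (c i : ℂ)) ∧ c 1 = 0 ∧
      ((c 0 = -1 ∧ c 2 = 0 ∧ c 3 = -1 ∧ c 4 = 0 ∧ c 5 = 0) ∨
       (c 0 = 0 ∧ c 2 = 1 ∧ c 3 = -1 ∧ c 4 = -1 ∧ c 5 = 0) ∨
       (c 0 = -1 ∧ c 2 = 0 ∧ c 3 = 0 ∧ c 4 = -1 ∧ c 5 = -1)) := by
  classical
  obtain ⟨n1, n2⟩ := nonfixed_ne hD hf
  have hn : classInner (Vt D Ω θ φ 1) (Vt D Ω θ φ 1) = ((3 : ℤ) : ℂ) := by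
    have h0 := inner_RN_ne (Ω := Ω) hD n1 (fixed_sep hD (conjChar_one hD false) n1)
    rw [inner_Vt hD, inner_RN_self hD hf, inner_RN_fixed hD (conjChar_one hD false), h0,
      ← classInner_comm (D.core.R Ω false φ), h0, map_zero]
    norm_num
  obtain ⟨c, hc⟩ := coords hx.orth (Vt_gen hD hgen φ 1)
  obtain ⟨e1, e2, e3⟩ := Vt_eqs hD hx φ 1 hc
  simp only [n1, n2, ho, orbit_ne hD (conjChar_one hD false), if_false, if_true,
    Ne.symm (lamT_ne_one hD false)] at e1 e2 e3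
  obtain ⟨hb, -⟩ := bessel_six hx.orth (Vt_gen hD hgen φ 1) hc hn
  refine ⟨hn, c, hc, ?_⟩
  rw [show c 2 = 1 + c 0 - c 1 by omega, show c 4 = -2 - c 0 - c 3 by omega,
    show c 5 = -1 - c 1 - c 3 by omega] at hb
  rcases opts_A hb with h | h | h <;> omega

/-- The difference with a fixed character. -/
theorem Wt_options {φ μ : ↥(D.core.T false) →* ℂˣ} (hf : D.core.conjChar (hD.core.nnorm false) φ ≠ φ)
    (ho : ¬ Sys.ThOrbit hD φ) (hμ : D.core.conjChar (hD.core.nnorm false) μ = μ) (hμ1 : μ ≠ 1)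
    (hμl : μ ≠ D.lamT false) :
    classInner (Vt D Ω θ φ μ) (Vt D Ω θ φ μ) = ((3 : ℤ) : ℂ) ∧
    classInner (Vt D Ω θ φ μ) (Vt D Ω θ φ 1) = 1 ∧
    ∃ c : Fin 6 → ℤ, (∀ i, classInner (Vt D Ω θ φ μ) (x i) = (c i : ℂ)) ∧
      c 2 = c 0 - c 1 ∧ c 4 = -c 0 - c 3 ∧ c 5 = -c 1 - c 3 ∧
      nrmW (c 0) (c 1) (c 3) ≤ 3 := by
  classical
  obtain ⟨n1, n2⟩ := nonfixed_ne hD hf
  have hne : φ ≠ μ := fun h => hf (h ▸ hμ)
  have a1 := inner_RN_ne (Ω := Ω) hD hne (fixed_sep hD hμ hne)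
  have a2 : classInner (D.core.R Ω false μ) (D.core.R Ω false φ) = 0 := by
    rw [← classInner_comm, a1, map_zero]
  have a3 := inner_RN_ne (Ω := Ω) hD n1 (fixed_sep hD (conjChar_one hD false) n1)
  have a4 := inner_RN_ne (Ω := Ω) hD hμ1 (fixed_sep hD (conjChar_one hD false) hμ1)
  have hn : classInner (Vt D Ω θ φ μ) (Vt D Ω θ φ μ) = ((3 : ℤ) : ℂ) := by
    rw [inner_Vt hD, inner_RN_self hD hf, inner_RN_fixed hD hμ, a1, a2]; norm_num
  refine ⟨hn, ?_, ?_⟩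
  · rw [inner_Vt hD, inner_RN_self hD hf, a3, a2, a4]; norm_num
  obtain ⟨c, hc⟩ := coords hx.orth (Vt_gen hD hgen φ μ)
  obtain ⟨e1, e2, e3⟩ := Vt_eqs hD hx φ μ hc
  simp only [n1, n2, hμ1, hμl, ho, orbit_ne hD hμ, if_false] at e1 e2 e3
  obtain ⟨hb, -⟩ := bessel_six hx.orth (Vt_gen hD hgen φ μ) hc hn
  refine ⟨c, hc, by omega, by omega, by omega, ?_⟩
  rw [show c 2 = c 0 - c 1 by omega, show c 4 = -(c 0 + c 3) by omega,
    show c 5 = -(c 1 + c 3) by omega, neg_sq, neg_sq] at hb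
  simpa only [nrmW] using hb

/-- The column of a nonfixed character outside the orbit of `θ`. -/
theorem coord_nonfixedT {φ : ↥(D.core.T false) →* ℂˣ} (hf : D.core.conjChar (hD.core.nnorm false) φ ≠ φ)
    (ho : ¬ Sys.ThOrbit hD φ) :
    ∀ i, classInner (Vt D Ω θ φ 1) (x i) = ((![-1, 0, 0, -1, 0, 0] : Fin 6 → ℤ) i : ℂ) := by
  classical
  obtain ⟨hn, c, hc, c1, hcases⟩ := Vt_options hD hgen hx hf ho
  rcases hcases with ⟨c0, c2, c3, c4, c5⟩ | hbad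
  · intro i
    rw [hc i]
    congr 1
    fin_cases i <;> simp [c0, c1, c2, c3, c4, c5]
  exfalso
  obtain ⟨-, hsat⟩ := bessel_six hx.orth (Vt_gen hD hgen φ 1) hc hn
  have hs := hsat (by rcases hbad with ⟨c0, c2, c3, c4, c5⟩ | ⟨c0, c2, c3, c4, c5⟩ <;>
    rw [c0, c1, c2, c3, c4, c5] <;> norm_num)
  rcases hD.extra with hx' | ⟨μ, μ', hμμ, hμ, hμ', hμ1, hμ'1, hμl, hμ'l⟩
  · obtain ⟨ψ, hψf, hψ1, hψ2, hψ3, hψ4⟩ := hx' φ hf
    obtain ⟨-, d, hd, d1, hdd⟩ := Vt_options hD hgen hx hψf (not_or.2 ⟨hψ1, hψ2⟩)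
    have h2 : classInner (Vt D Ω θ φ 1) (Vt D Ω θ ψ 1) = 2 := by
      obtain ⟨n1, -⟩ := nonfixed_ne hD hf
      obtain ⟨m1, -⟩ := nonfixed_ne hD hψf
      have b1 := inner_RN_ne (Ω := Ω) hD (Ne.symm hψ3) (fun h => hψ4 h.symm)
      have b2 := inner_RN_ne (Ω := Ω) hD n1 (fixed_sep hD (conjChar_one hD false) n1)
      have b3 := inner_RN_ne (Ω := Ω) hD m1 (fixed_sep hD (conjChar_one hD false) m1)
      rw [inner_Vt hD, b1, b2, inner_RN_fixed hD (conjChar_one hD false),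
        ← classInner_comm (D.core.R Ω false ψ), b3, map_zero]
      norm_num
    rw [hs hd] at h2
    have h3 : (c 0 * d 0 + c 1 * d 1 + c 2 * d 2 + c 3 * d 3 + c 4 * d 4 + c 5 * d 5 : ℤ) = 2 := by
      exact_mod_cast h2
    rcases hbad with ⟨c0, c2, c3, c4, c5⟩ | ⟨c0, c2, c3, c4, c5⟩ <;>
      rcases hdd with ⟨d0, d2, d3, d4, d5⟩ | ⟨d0, d2, d3, d4, d5⟩ | ⟨d0, d2, d3, d4, d5⟩ <;>
        rw [c0, c1, c2, c3, c4, c5, d0, d1, d2, d3, d4, d5] at h3 <;> norm_num at h3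
  · have key : ∀ ν : ↥(D.core.T false) →* ℂˣ, D.core.conjChar (hD.core.nnorm false) ν = ν → ν ≠ 1 →
        ν ≠ D.lamT false → ∃ d : Fin 6 → ℤ, (∀ i, classInner (Vt D Ω θ φ ν) (x i) = (d i : ℂ)) ∧
          d 0 ^ 2 + d 1 ^ 2 + d 2 ^ 2 + d 3 ^ 2 + d 4 ^ 2 + d 5 ^ 2 = 3 ∧
          ((c 0 = 0 ∧ d 2 = d 0 - d 1 ∧ d 4 = -d 0 - d 3 ∧ d 5 = -d 1 - d 3 ∧
              ((d 0 = 0 ∧ d 1 = -1 ∧ d 3 = 0) ∨ (d 0 = 1 ∧ d 1 = 1 ∧ d 3 = -1))) ∨
           (c 0 = -1 ∧ d 2 = d 0 - d 1 ∧ d 4 = -d 0 - d 3 ∧ d 5 = -d 1 - d 3 ∧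
              ((d 0 = 0 ∧ d 1 = 1 ∧ d 3 = 0) ∨ (d 0 = -1 ∧ d 1 = -1 ∧ d 3 = 1)))) := by
      intro ν h1 h2 h3
      obtain ⟨-, h11, d, hd, d2, d4, d5, hb⟩ := Wt_options hD hgen hx hf ho h1 h2 h3
      have h12 : classInner (Vt D Ω θ φ 1) (Vt D Ω θ φ ν) = 1 := by rw [← classInner_comm, h11, map_one]
      rw [hs hd] at h12
      have h13 : (c 0 * d 0 + c 1 * d 1 + c 2 * d 2 + c 3 * d 3 + c 4 * d 4 + c 5 * d 5 : ℤ) = 1 := by
        exact_mod_cast h12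
      rw [d2, d4, d5, c1] at h13
      have hn3 : d 0 ^ 2 + d 1 ^ 2 + d 2 ^ 2 + d 3 ^ 2 + d 4 ^ 2 + d 5 ^ 2 = 3 := by
        rcases opts_W hb with ⟨e0, e1, e3⟩ | e
        · rw [e0, e1, e3] at h13; norm_num at h13
        · rw [d2, d4, d5]; simp only [nrmW] at e; linear_combination e
      refine ⟨d, hd, hn3, ?_⟩
      obtain ⟨k1, k2, -⟩ := opts_W_one hb
      rcases hbad with ⟨c0, c2, c3, c4, c5⟩ | ⟨c0, c2, c3, c4, c5⟩ <;>
        rw [c0, c2, c3, c4, c5] at h13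
      · exact Or.inl ⟨c0, d2, d4, d5, k1 (by linarith)⟩
      · exact Or.inr ⟨c0, d2, d4, d5, k2 (by linarith)⟩
    obtain ⟨d, hd, dn, hdc⟩ := key μ hμ hμ1 hμl
    obtain ⟨d', hd', -, hdc'⟩ := key μ' hμ' hμ'1 hμ'l
    obtain ⟨hn', -, -⟩ := Wt_options hD hgen hx hf ho hμ hμ1 hμl
    obtain ⟨-, hsat'⟩ := bessel_six hx.orth (Vt_gen hD hgen φ μ) hd hn'
    have h1 := hsat' dn hd'
    have hne : φ ≠ μ := fun h => hf (h ▸ hμ)
    have hne' : φ ≠ μ' := fun h => hf (h ▸ hμ')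
    have a2 : classInner (D.core.R Ω false μ) (D.core.R Ω false φ) = 0 := by
      rw [← classInner_comm, inner_RN_ne hD hne (fixed_sep hD hμ hne), map_zero]
    rw [inner_Vt hD, inner_RN_self hD hf, inner_RN_ne hD hne' (fixed_sep hD hμ' hne'), a2,
      inner_RN_ne hD hμμ (fixed_sep hD hμ' hμμ)] at h1
    have h2 : (1 - 0 - (0 - 0) : ℤ) =
        d 0 * d' 0 + d 1 * d' 1 + d 2 * d' 2 + d 3 * d' 3 + d 4 * d' 4 + d 5 * d' 5 := by
      exact_mod_cast h1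
    rcases hdc with ⟨hc0, e2, e4, e5, h⟩ | ⟨hc0, e2, e4, e5, h⟩ <;>
      rcases hdc' with ⟨hc0', f2, f4, f5, h'⟩ | ⟨hc0', f2, f4, f5, h'⟩ <;>
      first
        | omega
        | (rcases h with ⟨a0, a1, a3⟩ | ⟨a0, a1, a3⟩ <;> rcases h' with ⟨b0, b1, b3⟩ | ⟨b0, b1, b3⟩ <;>
            rw [e2, e4, e5, f2, f4, f5, a0, a1, a3, b0, b1, b3] at h2 <;> norm_num at h2)

/-- The column of a fixed character other than `1` and `lam`. -/
theorem coord_fixedT {μ : ↥(D.core.T false) →* ℂˣ} (hμ : D.core.conjChar (hD.core.nnorm false) μ = μ)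
    (hμ1 : μ ≠ 1) (hμl : μ ≠ D.lamT false) :
    ∀ i, classInner (Vt D Ω θ μ 1) (x i) = ((![-1, 0, 0, -1, 0, 0] : Fin 6 → ℤ) i : ℂ) := by
  classical
  obtain ⟨φ, hf, ho⟩ : ∃ φ : ↥(D.core.T false) →* ℂˣ, D.core.conjChar (hD.core.nnorm false) φ ≠ φ ∧
      ¬ Sys.ThOrbit hD φ := by
    rcases hD.extra with hx' | ⟨ν, ν', hνν, hν, hν', hν1, hν'1, -, -⟩
    · obtain ⟨ψ, h1, h2, h3, -, -⟩ := hx' D.θ hD.thne
      exact ⟨ψ, h1, not_or.2 ⟨h2, h3⟩⟩
    · have hmul : ∀ κ : ↥(D.core.T false) →* ℂˣ, D.core.conjChar (hD.core.nnorm false) κ = κ →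
          D.core.conjChar (hD.core.nnorm false) (D.θ * κ) =
            D.core.conjChar (hD.core.nnorm false) D.θ * κ := fun κ hκ => by
        conv_rhs => rw [← hκ]
        exact MonoidHom.ext fun t => rfl
      have hnf : ∀ κ : ↥(D.core.T false) →* ℂˣ, D.core.conjChar (hD.core.nnorm false) κ = κ →
          D.core.conjChar (hD.core.nnorm false) (D.θ * κ) ≠ D.θ * κ := fun κ hκ h =>
        hD.thne (mul_right_cancel ((hmul κ hκ).symm.trans h))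
      by_cases h : D.θ * ν = D.core.conjChar (hD.core.nnorm false) D.θ
      · refine ⟨D.θ * ν', hnf ν' hν', ?_⟩
        rintro (h' | h')
        · exact hν'1 (char_mul_self h')
        · exact hνν (mul_left_cancel (h.trans h'.symm))
      · exact ⟨D.θ * ν, hnf ν hν, fun h' => h'.elim (fun e => hν1 (char_mul_self e)) h⟩
  have hA := coord_nonfixedT hD hgen hx hf ho
  -- a difference with nonzero coordinates is saturated and meets the column of `φ`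
  have sat : ∀ ν : ↥(D.core.T false) →* ℂˣ, D.core.conjChar (hD.core.nnorm false) ν = ν → ν ≠ 1 →
      ν ≠ D.lamT false → ∃ d : Fin 6 → ℤ, (∀ i, classInner (Vt D Ω θ φ ν) (x i) = (d i : ℂ)) ∧
        d 2 = d 0 - d 1 ∧ d 4 = -d 0 - d 3 ∧ d 5 = -d 1 - d 3 ∧
        ((d 0 = 0 ∧ d 1 = 0 ∧ d 3 = 0) ∨
          (d 0 ^ 2 + d 1 ^ 2 + d 2 ^ 2 + d 3 ^ 2 + d 4 ^ 2 + d 5 ^ 2 = 3 ∧
            ((d 0 = 0 ∧ d 1 = 0 ∧ d 3 = -1) ∨ (d 0 = -1 ∧ d 1 = 0 ∧ d 3 = 0)))) := by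
    intro ν h1 h2 h3
    obtain ⟨hn, h11, d, hd, d2, d4, d5, hb⟩ := Wt_options hD hgen hx hf ho h1 h2 h3
    refine ⟨d, hd, d2, d4, d5, ?_⟩
    rcases opts_W hb with h | e
    · exact Or.inl h
    have e' : d 0 ^ 2 + d 1 ^ 2 + d 2 ^ 2 + d 3 ^ 2 + d 4 ^ 2 + d 5 ^ 2 = 3 := by
      rw [d2, d4, d5]; simp only [nrmW] at e; linear_combination e
    refine Or.inr ⟨e', ?_⟩
    obtain ⟨-, hsat⟩ := bessel_six hx.orth (Vt_gen hD hgen φ ν) hd hn
    have h13 := (hsat e' hA).symm.trans h11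
    simp only [Matrix.cons_val_zero, Matrix.cons_val_one, Matrix.cons_val] at h13
    have h14 : (d 0 * -1 + d 1 * 0 + d 2 * 0 + d 3 * -1 + d 4 * 0 + d 5 * 0 : ℤ) = 1 := by exact_mod_cast h13
    exact (opts_W_one hb).2.2 (by linarith)
  obtain ⟨d, hd, d2, d4, d5, hcase⟩ := sat μ hμ hμ1 hμl
  rcases hcase with ⟨d0, d1, d3⟩ | ⟨dn, hvec⟩
  · intro i
    have hV : Vt D Ω θ μ 1 = Vt D Ω θ φ 1 - Vt D Ω θ φ μ := by
      rw [Vt, Vt, Vt, ← upT_sub]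
      congr 1
      abel
    have hd0 : d i = 0 := by fin_cases i <;> simp <;> omega
    rw [hV, classInner_sub_left, hA, hd, hd0]
    simp
  exfalso
  obtain ⟨hn, -, -⟩ := Wt_options hD hgen hx hf ho hμ hμ1 hμl
  obtain ⟨-, hsat⟩ := bessel_six hx.orth (Vt_gen hD hgen φ μ) hd hn
  have hne : φ ≠ μ := fun h => hf (h ▸ hμ)
  rcases hD.extra with hx' | ⟨ν, ν', hνν, hν, hν', hν1, hν'1, hνl, hν'l⟩
  · obtain ⟨ψ, hψf, hψ1, hψ2, hψ3, hψ4⟩ := hx' φ hf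
    have h := hsat dn (coord_nonfixedT hD hgen hx hψf (not_or.2 ⟨hψ1, hψ2⟩))
    obtain ⟨n1, -⟩ := nonfixed_ne hD hf
    have hne' : ψ ≠ μ := fun h => hψf (h ▸ hμ)
    have a2 : classInner (D.core.R Ω false μ) (D.core.R Ω false ψ) = 0 := by
      rw [← classInner_comm, inner_RN_ne hD hne' (fixed_sep hD hμ hne'), map_zero]
    rw [inner_Vt hD, inner_RN_ne hD (Ne.symm hψ3) (fun h => hψ4 h.symm),
      inner_RN_ne hD n1 (fixed_sep hD (conjChar_one hD false) n1), a2,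
      inner_RN_ne hD hμ1 (fixed_sep hD (conjChar_one hD false) hμ1)] at h
    simp only [Matrix.cons_val_zero, Matrix.cons_val_one, Matrix.cons_val] at h
    have h' : (0 - 0 - (0 - 0) : ℤ) = d 0 * -1 + d 1 * 0 + d 2 * 0 + d 3 * -1 + d 4 * 0 + d 5 * 0 := by
      exact_mod_cast h
    rcases hvec with ⟨a0, a1, a3⟩ | ⟨a0, a1, a3⟩ <;> omega
  · obtain ⟨κ, hκ, hκ1, hκl, hκμ⟩ : ∃ κ, D.core.conjChar (hD.core.nnorm false) κ = κ ∧ κ ≠ 1 ∧
        κ ≠ D.lamT false ∧ κ ≠ μ := by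
      by_cases h : ν = μ
      · exact ⟨ν', hν', hν'1, hν'l, fun e => hνν (h.trans e.symm)⟩
      · exact ⟨ν, hν, hν1, hνl, h⟩
    obtain ⟨f, hfc, f2, f4, f5, fcase⟩ := sat κ hκ hκ1 hκl
    have h := hsat dn hfc
    have hne' : φ ≠ κ := fun h => hf (h ▸ hκ)
    have a2 : classInner (D.core.R Ω false μ) (D.core.R Ω false φ) = 0 := by
      rw [← classInner_comm, inner_RN_ne hD hne (fixed_sep hD hμ hne), map_zero]
    rw [inner_Vt hD, inner_RN_self hD hf, inner_RN_ne hD hne' (fixed_sep hD hκ hne'), a2,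
      inner_RN_ne hD (Ne.symm hκμ) (fixed_sep hD hκ (Ne.symm hκμ))] at h
    have h' : (1 - 0 - (0 - 0) : ℤ) =
        d 0 * f 0 + d 1 * f 1 + d 2 * f 2 + d 3 * f 3 + d 4 * f 4 + d 5 * f 5 := by exact_mod_cast h
    rcases fcase with ⟨b0, b1, b3⟩ | ⟨fn, fvec⟩
    · rw [f2, f4, f5, b0, b1, b3] at h'; norm_num at h'
    obtain ⟨n, B, C, k0, k1, k2, k3, k4, k5, hn0, -, -, -, hY, -⟩ := sixT_degrees hD hx
    obtain ⟨hn2, -, -⟩ := Wt_options hD hgen hx hf ho hκ hκ1 hκl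
    have r1 := degree_rel hD ⟨k0, k1, k2, k3, k4, k5⟩ hx.orth (Vt_gen hD hgen φ μ)
      (upT_one hD θ (supp_RN hD _ _)) hd hn dn
    have r2 := degree_rel hD ⟨k0, k1, k2, k3, k4, k5⟩ hx.orth (Vt_gen hD hgen φ κ)
      (upT_one hD θ (supp_RN hD _ _)) hfc hn2 fn
    rw [d2, d4, d5] at h' r1
    rw [f2, f4, f5] at h' r2
    rcases hvec with ⟨a0, a1, a3⟩ | ⟨a0, a1, a3⟩ <;> rcases fvec with ⟨b0, b1, b3⟩ | ⟨b0, b1, b3⟩ <;>
      rw [a0, a1, a3] at h' r1 <;> rw [b0, b1, b3] at h' r2 <;> first | (norm_num at h'; done) | omega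

/-- The coordinates. -/
theorem coord_allT {φ : ↥(D.core.T false) →* ℂˣ} (hφ1 : φ ≠ 1) :
    (φ = D.lamT false → ∀ i, classInner (Vt D Ω θ φ 1) (x i) = ((![-1, 0, 1, -1, 0, -1] : Fin 6 → ℤ) i : ℂ)) ∧
    (φ ≠ D.lamT false → Sys.ThOrbit hD φ →
      ∀ i, classInner (Vt D Ω θ φ 1) (x i) = ((![-1, 0, 0, -1, -1, 0] : Fin 6 → ℤ) i : ℂ)) ∧
    (φ ≠ D.lamT false → ¬ Sys.ThOrbit hD φ →
      ∀ i, classInner (Vt D Ω θ φ 1) (x i) = ((![-1, 0, 0, -1, 0, 0] : Fin 6 → ℤ) i : ℂ)) := by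
  refine ⟨?_, fun _ ho => ?_, fun hl ho => ?_⟩
  · rintro rfl i
    have hV : Vt D Ω θ (D.lamT false) 1 = upT θ (D.th1 Ω) - upT θ (D.th1' Ω) := by
      rw [Vt, ← upT_sub]
      congr 1
      rw [R_lam_false hD, R_one_false hD, Sys.th1, Sys.th1']
      abel
    rw [hV, hx.th1, hx.th1']
    simp only [classInner_sub_left, classInner_add_left, classInner_neg_left, hx.orth.orth]
    fin_cases i <;> simp
  · intro i
    have hV : Vt D Ω θ φ 1 = upT θ (D.th2 Ω) := by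
      rcases ho with rfl | rfl
      · rfl
      · rw [Vt, R_conjChar hD.core]; rfl
    rw [hV, hx.th2]
    simp only [classInner_add_left, classInner_neg_left, hx.orth.orth]
    fin_cases i <;> simp
  · by_cases hf : D.core.conjChar (hD.core.nnorm false) φ = φ
    · exact coord_fixedT hD hgen hx hf hφ1 hl
    · exact coord_nonfixedT hD hgen hx hf ho

end CfsgLib.BrauerTwist
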