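import Cfsg.Agent.Lib.BrauerTwist.Values

/-!
# The class equations of the twisted system

The three equations, the absence of linear constituents, the wreathed case and the two equations of the
semidihedral case.

Blueprint: `blueprint/RankTwo_P9.md`.
-/

set_option autoImplicit false
set_option linter.unusedSectionVars false
set_option linter.style.haveILetI false

namespace CfsgLib.BrauerTwist

open Cfsg CfsgLib.CharTheory CfsgLib.BrauerOrder CfsgLib.Blocks CfsgLib.Blocks.AbelianFree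
open scoped ComplexConjugate

universe u v

section Arith

/-- The wreathed equations scaled by the degree `n`. -/
theorem wreathed_scaled {Q n B C κ : ℚ} (hQ : Q ≠ 0) (hQ1 : Q + 1 ≠ 0) (hQm : Q - 1 ≠ 0) (hn : n ≠ 0)
    (hA : n - B ≠ 0) (hB : B ≠ 0) (hC : C ≠ 0) (hY : -n - C ≠ 0) (hF : B - n - C ≠ 0)
    (hκ : κ * (Q ^ 2 + Q + 1) = (Q + 1) ^ 2)
    (h1 : -1 / n + (Q + 1) ^ 2 / (n - B) + (Q + 2) ^ 2 / B = κ * (4 / (Q + 1) - 1 - 1 / Q))
    (h2 : 1 / n + (Q - 1) ^ 2 / (-n - C) + Q ^ 2 / C = κ * (1 - 1 / Q))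
    (h3 : (Q + 1) ^ 2 / (n - B) + Q ^ 2 / C + (2 * Q + 1) ^ 2 / (B - n - C) =
      κ * (4 / (Q + 1) - 1 - 1 / Q)) : n = 1 := by
  obtain ⟨b, rfl⟩ : ∃ b, B = n * b := ⟨B / n, by field_simp⟩
  obtain ⟨c, rfl⟩ : ∃ c, C = n * c := ⟨C / n, by field_simp⟩
  have a1 : 1 - b ≠ 0 := fun h => hA (by linear_combination n * h)
  have a2 : b ≠ 0 := fun h => hB (by rw [h, mul_zero])
  have a3 : c ≠ 0 := fun h => hC (by rw [h, mul_zero])
  have a4 : -1 - c ≠ 0 := fun h => hY (by linear_combination n * h)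
  have a5 : b - 1 - c ≠ 0 := fun h => hF (by linear_combination n * h)
  rw [show n - n * b = n * (1 - b) by ring] at h1 h3
  rw [show -n - n * c = n * (-1 - c) by ring] at h2
  rw [show n * b - n - n * c = n * (b - 1 - c) by ring] at h3
  have E1 : -1 + (Q + 1) ^ 2 / (1 - b) + (Q + 2) ^ 2 / b = n * κ * (4 / (Q + 1) - 1 - 1 / Q) := by
    rw [mul_assoc, ← h1]; field_simp; try ring
  have E2 : 1 + (Q - 1) ^ 2 / (-1 - c) + Q ^ 2 / c = n * κ * (1 - 1 / Q) := by
    rw [mul_assoc, ← h2]; field_simp; try ring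
  have E3 : (Q + 1) ^ 2 / (1 - b) + Q ^ 2 / c + (2 * Q + 1) ^ 2 / (b - 1 - c) =
      n * κ * (4 / (Q + 1) - 1 - 1 / Q) := by
    rw [mul_assoc, ← h3]; field_simp; try ring
  have hk : b ≠ Q + 2 := by
    intro h
    have hE := E1
    rw [h, show (1 : ℚ) - (Q + 2) = -(Q + 1) by ring] at hE
    rw [h] at a2
    field_simp at hE
    have h0 : n * κ * (Q - 1) ^ 2 = 0 := by linear_combination hE
    rcases mul_eq_zero.1 h0 with h0 | h0
    · rcases mul_eq_zero.1 h0 with h0 | h0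
      · exact hn h0
      · rw [h0, zero_mul] at hκ; exact pow_ne_zero 2 hQ1 hκ.symm
    · exact pow_ne_zero 2 hQm h0
  obtain ⟨e1, e2⟩ := Arith.wreathed_normal hQ hQ1 hQm a1 a2 a3 a4 a5 hk E1 E2 E3
  rw [e1, mul_assoc, hκ] at e2
  exact mul_right_cancel₀ (pow_ne_zero 2 hQ1) (e2.trans (one_mul _).symm)

/-- The other column has no solution at all. -/
theorem wreathed_scaled_alt {Q n B C κ : ℚ} (hQ : Q ≠ 0) (hQ1 : Q + 1 ≠ 0) (hQm : Q - 1 ≠ 0) (hn : n ≠ 0)
    (hA : n - B ≠ 0) (hB : B ≠ 0) (hC : C ≠ 0) (hY : -n - C ≠ 0) (hF : B - n - C ≠ 0) (hκ : κ ≠ 0)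
    (h1 : -1 / n + (Q + 1) ^ 2 / (n - B) + Q ^ 2 / B = κ * (4 / (Q + 1) - 1 - 1 / Q))
    (h2 : 1 / n + (Q - 1) ^ 2 / (-n - C) + Q ^ 2 / C = κ * (1 - 1 / Q))
    (h3 : (Q + 1) ^ 2 / (n - B) + Q ^ 2 / C + 1 / (B - n - C) = κ * (4 / (Q + 1) - 1 - 1 / Q)) : False := by
  obtain ⟨b, rfl⟩ : ∃ b, B = n * b := ⟨B / n, by field_simp⟩
  obtain ⟨c, rfl⟩ : ∃ c, C = n * c := ⟨C / n, by field_simp⟩
  have a1 : 1 - b ≠ 0 := fun h => hA (by linear_combination n * h)
  have a2 : b ≠ 0 := fun h => hB (by rw [h, mul_zero])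
  have a3 : c ≠ 0 := fun h => hC (by rw [h, mul_zero])
  have a4 : -1 - c ≠ 0 := fun h => hY (by linear_combination n * h)
  have a5 : b - 1 - c ≠ 0 := fun h => hF (by linear_combination n * h)
  rw [show n - n * b = n * (1 - b) by ring] at h1 h3
  rw [show -n - n * c = n * (-1 - c) by ring] at h2
  rw [show n * b - n - n * c = n * (b - 1 - c) by ring] at h3
  have E1 : -1 + (Q + 1) ^ 2 / (1 - b) + Q ^ 2 / b = n * κ * (4 / (Q + 1) - 1 - 1 / Q) := by
    rw [mul_assoc, ← h1]; field_simp; try ring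
  have E2 : 1 + (Q - 1) ^ 2 / (-1 - c) + Q ^ 2 / c = n * κ * (1 - 1 / Q) := by
    rw [mul_assoc, ← h2]; field_simp; try ring
  have E3 : (Q + 1) ^ 2 / (1 - b) + Q ^ 2 / c + 1 / (b - 1 - c) = n * κ * (4 / (Q + 1) - 1 - 1 / Q) := by
    rw [mul_assoc, ← h3]; field_simp; try ring
  have hk : b ≠ -Q := by
    intro h
    have hE := E1
    rw [h, show (1 : ℚ) - -Q = Q + 1 by ring] at hE
    field_simp at hE
    have h0 : n * κ * (Q - 1) ^ 2 = 0 := by linear_combination hE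
    rcases mul_eq_zero.1 h0 with h0 | h0
    · exact mul_ne_zero hn hκ h0
    · exact pow_ne_zero 2 hQm h0
  exact Arith.wreathed_alt hQ hQ1 hQm a1 a2 a3 a4 a5 hk E1 E2 E3

end Arith

variable {G : Type u} [Group G] [Fintype G] {z : G} [Fintype (Cz z)] {Ω : Type v} [MulAction (Cz z) Ω]
  {D : Sys G z}

theorem tw_addf (θ : Cz z →* ℂˣ) (f g : Cz z → ℂ) : tw θ (f + g) = tw θ f + tw θ g :=
  funext fun c => mul_add _ _ _

theorem tw_subf (θ : Cz z →* ℂˣ) (f g : Cz z → ℂ) : tw θ (f - g) = tw θ f - tw θ g :=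
  funext fun c => mul_sub _ _ _

variable [Finite Ω] (hD : D.Spec Ω) {θ : Cz z →* ℂˣ} {k : ℕ} {x : Fin 6 → G → ℂ}
include hD

/-- The class sum equations. -/
theorem class_equationsT (hθ : IsField θ k)
    (hgen : ∀ (b : Bool) (τ : ↥(D.core.T b) →* ℂˣ), IsGeneralizedCharacter (Cz z) (D.core.R Ω b τ))
    (hx : SixT D Ω θ x) :
    -(x 0 z) ^ 2 / x 0 1 + (x 1 z) ^ 2 / x 1 1 + (x 2 z) ^ 2 / x 2 1 =
      D.kappa * ((1 + (D.τ0 ⟨D.zc, zcU hD⟩ : ℂ)) ^ 2 / (1 + (D.Q : ℂ)) - 1 - 1 / (D.Q : ℂ)) ∧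
    (x 0 z) ^ 2 / x 0 1 + (x 4 z) ^ 2 / x 4 1 + (x 3 z) ^ 2 / x 3 1 = D.kappa * (1 - 1 / (D.Q : ℂ)) ∧
    (x 1 z) ^ 2 / x 1 1 + (x 3 z) ^ 2 / x 3 1 + (x 5 z) ^ 2 / x 5 1 =
      D.kappa * ((1 + (D.τ0 ⟨D.zc, zcU hD⟩ : ℂ)) ^ 2 / (1 + (D.Q : ℂ)) - 1 - 1 / (D.Q : ℂ)) := by
  classical
  obtain ⟨s1, s1', s2⟩ := supp_th hD
  obtain ⟨f1, f1', f2⟩ := classFun_th hD
  obtain ⟨g1, g2, g3, g4, g5, g6⟩ := signed_six hD hgen
  obtain ⟨w1, w2, w3, w4, w5⟩ := values_w hD
  obtain ⟨v1, v2, v3, v4, v5⟩ := values_one hD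
  have hwz := zcw_conj hD
  have hw : θ D.w = 1 := two_trivial hθ (two_of_mem hD.core (hD.wT))
  have sT : ∀ {a : Cz z → ℂ}, IsSignedIrr a →
      ∑ ψ : IrrCharacter (Cz z), classInner (tw θ a) (ψ : Cz z → ℂ) * (ψ : Cz z → ℂ) D.w ^ 2 /
        (ψ : Cz z → ℂ) 1 = a D.w ^ 2 / a 1 := fun {a} ha => by
    rw [sum_signed (tw_signed θ ha)]
    simp only [tw, hw, map_one, Units.val_one, one_mul]
  have p1 := pair_identity hD hwz (supp_tw θ s1) (tw_classFun θ f1)
  have p1' := pair_identity hD hwz (supp_tw θ s1') (tw_classFun θ f1')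
  have p2' := pair_identity hD hwz (supp_tw θ s2) (tw_classFun θ f2)
  have e1 : D.up (tw θ (D.th1 Ω)) = _ := hx.th1
  have e1' : D.up (tw θ (D.th1' Ω)) = _ := hx.th1'
  have e2 : D.up (tw θ (D.th2 Ω)) = _ := hx.th2
  have one_w : D.one D.w = 1 := rfl
  have one_1 : D.one 1 = 1 := rfl
  rw [e1, Sys.th1] at p1
  rw [e1', Sys.th1'] at p1'
  rw [e2, Sys.th2, R_one_false hD] at p2'
  simp only [tw_subf, classInner_add_left, classInner_sub_left, classInner_neg_left, add_mul, sub_mul, neg_mul,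
    add_div, sub_div, neg_div, Finset.sum_add_distrib, Finset.sum_sub_distrib, Finset.sum_neg_distrib,
    sum_signed (hx.orth.signed _), sT g1, sT g2, sT g3, sT g4, sT g5,
    sT g6, one_pow, div_one, w1, w2, w3, w4, w5, v1, v2, v3, v4, v5, one_w, one_1] at p1 p1' p2'
  refine ⟨by linear_combination p1, ?_, p1'⟩
  linear_combination -p2'

/-- **No linear constituents.** -/
theorem deg_ne [IsSimpleGroup G] (hnc : ¬ IsMulCommutative G) (hθ : IsField θ k) (h1 : θ ≠ 1)
    (hgen : ∀ (b : Bool) (τ : ↥(D.core.T b) →* ℂˣ), IsGeneralizedCharacter (Cz z) (D.core.R Ω b τ))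
    (hx : SixT D Ω θ x) (i : Fin 6) : x i 1 ≠ 1 ∧ x i 1 ≠ -1 := by
  classical
  obtain ⟨g1, g2, g3, g4, g5, g6⟩ := signed_six hD hgen
  obtain ⟨v1, v2, v3, v4, v5⟩ := values_one hD
  set L : Cz z → ℂ := res θ (fun _ : G => (1 : ℂ))
  have hL : L = fun c => ((θ⁻¹ c : ℂˣ) : ℂ) := by
    funext c
    show conj (θ c : ℂ) * 1 = _
    rw [mul_one, conj_hom_apply, MonoidHom.inv_apply, map_inv]
  have hLirr : IsIrrCharacter (Cz z) L := hL ▸ isIrrCharacter_linear θ⁻¹
  have hL1 : L 1 = 1 := by rw [hL]; simp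
  have horth : ∀ {a : Cz z → ℂ}, IsSignedIrr a → a ≠ L → a ≠ -L → classInner a L = 0 := fun {a} ha n1 n2 => by
    rcases ha with h | h
    · exact classInner_irr_ne h hLirr n1
    · rw [← neg_neg a, classInner_neg_left,
        classInner_irr_ne h hLirr (fun e => n2 (by rw [← e, neg_neg])), neg_zero]
  have hbig : ∀ {a : Cz z → ℂ} {d : ℤ}, IsSignedIrr a → a 1 = (d : ℂ) → d ≠ 1 → d ≠ -1 → classInner a L = 0 :=
    fun {a} {d} ha hd n1 n2 => horth ha
      (fun e => n1 (by exact_mod_cast (show (d : ℂ) = 1 by rw [← hd, e, hL1])))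
      (fun e => n2 (by exact_mod_cast (show (d : ℂ) = -1 by rw [← hd, e, Pi.neg_apply, hL1])))
  have hQ : 3 ≤ |D.Q| := by
    have h3 : (3 : ℤ) ≤ D.core.q := by exact_mod_cast hD.core.qlb
    rcases hD.core.sgn true with e | e <;> rw [Sys.Q, e] <;> simp [abs_of_nonneg (show (0 : ℤ) ≤ D.core.q by omega)] <;>
      omega
  have hq : D.Q ≤ -3 ∨ 3 ≤ D.Q := by rcases le_abs.1 hQ with h | h <;> omega
  have i1 : classInner D.one L = 0 := by
    refine horth g1 (fun e => h1 (MonoidHom.ext fun c => ?_)) (fun e => ?_)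
    · have h := congrFun e c
      rw [hL] at h
      have h' : (θ⁻¹ c : ℂˣ) = 1 := Units.ext h.symm
      rw [MonoidHom.inv_apply, inv_eq_one] at h'
      rw [h', MonoidHom.one_apply]
    · have h := congrFun e 1
      rw [Pi.neg_apply, hL1] at h
      change (1 : ℂ) = -1 at h
      norm_num at h
  have i2 : classInner D.lamF L = 0 := by
    refine horth g2 (fun e => h1 (MonoidHom.ext fun c => ?_)) (fun e => ?_)
    · have h := congrFun e c
      rw [hL] at h
      have h' : (θ⁻¹ c : ℂˣ) = D.lam c := Units.ext h.symm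
      have h2 : θ c ^ 2 = 1 := by
        rw [← inv_inj, ← inv_pow, inv_one, sq, show (θ c)⁻¹ = D.lam c from h', hD.lamsq]
      rw [MonoidHom.one_apply, ← pow_one (θ c), ← (Nat.coprime_two_left.mpr hθ.odd).gcd_eq_one]
      exact pow_gcd_eq_one.mpr ⟨h2, hθ.pow c⟩
    · have h := congrFun e 1
      rw [Pi.neg_apply, hL1, v4] at h
      exact absurd h (by norm_num)
  have i3 : classInner (D.Sh Ω) L = 0 := hbig g3 (d := D.Q) v3 (by omega) (by omega)
  have i4 : classInner (D.lamSh Ω) L = 0 := hbig g4 (d := D.Q) v5 (by omega) (by omega)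
  have i5 : classInner (D.Rh Ω) L = 0 := hbig g5 (d := 1 + D.Q) (by rw [v1]; push_cast; rfl) (by omega) (by omega)
  have i6 : classInner (D.Th Ω) L = 0 := hbig g6 (d := 1 - D.Q) (by rw [v2]; push_cast; rfl) (by omega) (by omega)
  have hcl : IsClassFunction G (fun _ : G => (1 : ℂ)) := fun _ _ => rfl
  have z1 : classInner (upT θ (D.th1 Ω)) (fun _ => 1) = 0 := by
    rw [inner_upT_left θ _ hcl, Sys.th1, classInner_sub_left, classInner_sub_left, i5, i1, i4]; ring
  have z1' : classInner (upT θ (D.th1' Ω)) (fun _ => 1) = 0 := by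
    rw [inner_upT_left θ _ hcl, Sys.th1', classInner_sub_left, classInner_sub_left, i5, i2, i3]; ring
  have z2 : classInner (upT θ (D.th2 Ω)) (fun _ => 1) = 0 := by
    rw [inner_upT_left θ _ hcl, Sys.th2, R_one_false hD, classInner_sub_left, classInner_sub_left, i6, i1, i3]
    ring
  obtain ⟨χ, ε, hε, hχ⟩ := exists_irr (hx.orth.signed i)
  have main : ¬ ((χ : G → ℂ) 1 = 1) := by
    intro hd
    obtain ⟨f, hf⟩ := exists_hom_of_degree_one (isCharacter_of_irr χ.2) hd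
    have hfone : f = 1 := by
      rcases Subgroup.Normal.eq_bot_or_eq_top f.normal_ker with h | h
      · exact absurd ⟨⟨fun a b => (MonoidHom.ker_eq_bot_iff _).mp h (by rw [map_mul, map_mul, mul_comm])⟩⟩ hnc
      · exact MonoidHom.ext fun g => MonoidHom.mem_ker.mp (h ▸ Subgroup.mem_top g)
    have hxi : x i = ε • fun _ : G => (1 : ℂ) := by
      rw [hχ]
      congr 1
      funext g
      rw [hf, hfone]
      simp
    have hval : ∀ j, classInner (x j) (fun _ => 1) = conj ε⁻¹ * if j = i then 1 else 0 := by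
      intro j
      have he : ε ≠ 0 := by rcases hε with rfl | rfl <;> norm_num
      rw [show (fun _ : G => (1 : ℂ)) = ε⁻¹ • x i by rw [hxi, smul_smul, inv_mul_cancel₀ he, one_smul],
        classInner_smul_right, hx.orth.orth]
    have hε' : conj ε⁻¹ ≠ (0 : ℂ) := by rcases hε with rfl | rfl <;> norm_num
    rw [hx.th1, classInner_add_left, classInner_add_left, classInner_neg_left, hval, hval, hval] at z1
    rw [hx.th1', classInner_add_left, classInner_add_left, hval, hval, hval] at z1'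
    rw [hx.th2, classInner_neg_left, classInner_add_left, classInner_add_left, hval, hval, hval] at z2
    generalize conj ε⁻¹ = c at hε' z1 z1' z2
    fin_cases i <;> simp [hε'] at z1 z1' z2
  have hd0 := (charDegree_spec' χ.2).1
  rw [hχ, Pi.smul_apply, smul_eq_mul, hd0]
  have hne : ∀ e : ℂ, (e = 1 ∨ e = -1) → ε * (charDegree (χ : G → ℂ) : ℂ) ≠ e := by
    intro e he heq
    apply main
    rw [hd0]
    rcases hε with rfl | rfl <;> rcases he with rfl | rfl <;>
      · have h' : ((charDegree (χ : G → ℂ) : ℤ) : ℂ) = ((1 : ℤ) : ℂ) ∨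
            ((charDegree (χ : G → ℂ) : ℤ) : ℂ) = ((-1 : ℤ) : ℂ) := by
          push_cast
          first
            | exact Or.inl (by linear_combination heq)
            | exact Or.inr (by linear_combination heq)
            | exact Or.inl (by linear_combination -heq)
            | exact Or.inr (by linear_combination -heq)
        rcases h' with h' | h'
        · exact_mod_cast h'
        · have h'' : (charDegree (χ : G → ℂ) : ℤ) = -1 := by exact_mod_cast h'
          omega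
  exact ⟨hne 1 (Or.inl rfl), hne (-1) (Or.inr rfl)⟩

/-- **No field character in the wreathed case.** -/
theorem wreathed_eq_one [IsSimpleGroup G] (hnc : ¬ IsMulCommutative G) (h4 : 4 ≤ Nat.card D.core.Z)
    (hθ : IsField θ k) : θ = 1 := by
  by_contra hne
  have hgen := hgen_all hD
  obtain ⟨x, hx⟩ := exists_sixT (θ := θ) hD hgen
  obtain ⟨⟨s, hs, -, h4v⟩, hcase⟩ := values hD hθ hgen hx
  have h4z : (x 4 z) ^ 2 = ((D.Q : ℂ) - 1) ^ 2 := by
    rw [h4v]; rcases hs with rfl | rfl <;> push_cast <;> ring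
  rcases hcase with ⟨h2, -⟩ | ⟨-, hδ, hv⟩
  · omega
  obtain ⟨q1, q2, q3⟩ := class_equationsT hD hθ hgen hx
  obtain ⟨n, B, C, k0, k1, k2, k3, k4, k5, hn, hA, hB, hC, hY, hF⟩ := sixT_degrees hD hx
  have hdeg := deg_ne hD hnc hθ hne hgen hx
  have ho := order_wreathed hD h4
  obtain ⟨hQ, hQ1, hQm⟩ := Q_facts hD
  rw [hδ, k0, k1, k2, kappa_cast hD] at q1
  rw [k0, h4z, k4, k3, kappa_cast hD] at q2
  rw [hδ, k1, k3, k5, kappa_cast hD] at q3
  set K : ℚ := (Nat.card (Cz z) : ℚ) ^ 3 /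
    ((Nat.card G : ℚ) * (Nat.card (Subgroup.centralizer ({(D.w : G), z} : Set G)) : ℚ) ^ 2) with hK
  have hg : (Nat.card G : ℚ) ≠ 0 := Nat.cast_ne_zero.2 Nat.card_pos.ne'
  have hu : (Nat.card (Subgroup.centralizer ({(D.w : G), z} : Set G)) : ℚ) ≠ 0 :=
    Nat.cast_ne_zero.2 Nat.card_pos.ne'
  have hκ : K * ((D.Q : ℚ) ^ 2 + (D.Q : ℚ) + 1) = ((D.Q : ℚ) + 1) ^ 2 := by
    have ho' : (Nat.card G : ℚ) * (Nat.card (Subgroup.centralizer ({(D.w : G), z} : Set G)) : ℚ) ^ 2 *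
        ((D.Q : ℚ) + 1) ^ 2 = (Nat.card (Cz z) : ℚ) ^ 3 * ((D.Q : ℚ) ^ 2 + (D.Q : ℚ) + 1) := by exact_mod_cast ho
    rw [hK]
    field_simp
    linear_combination -ho'
  have mn : (n : ℚ) ≠ 0 := by exact_mod_cast hn
  have mA : (n : ℚ) - B ≠ 0 := by exact_mod_cast hA
  have mB : (B : ℚ) ≠ 0 := by exact_mod_cast hB
  have mC : (C : ℚ) ≠ 0 := by exact_mod_cast hC
  have mY : -(n : ℚ) - C ≠ 0 := by exact_mod_cast hY
  have mF : (B : ℚ) - n - C ≠ 0 := by exact_mod_cast hF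
  rcases hv with ⟨a0, a1, a2, a3, a5⟩ | ⟨a0, a1, a2, a3, a5⟩ | ⟨a0, a1, a2, a3, a5⟩
  · rw [a0, a1, a2] at q1
    rw [a0, a3] at q2
    rw [a1, a3, a5] at q3
    have h := wreathed_scaled (n := (n : ℚ)) (B := (B : ℚ)) (C := (C : ℚ)) hQ hQ1 hQm mn mA mB mC mY mF hκ
      (by apply Rat.cast_injective (α := ℂ); push_cast at q1 ⊢; linear_combination q1)
      (by apply Rat.cast_injective (α := ℂ); push_cast at q2 ⊢; linear_combination q2)
      (by apply Rat.cast_injective (α := ℂ); push_cast at q3 ⊢; linear_combination q3)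
    have h' : n = 1 := by exact_mod_cast h
    exact (hdeg 0).1 (by rw [k0, h', Int.cast_one])
  · rw [a0, a1, a2] at q1
    rw [a0, a3] at q2
    rw [a1, a3, a5] at q3
    refine wreathed_scaled_alt (n := (n : ℚ)) (B := (B : ℚ)) (C := (C : ℚ)) (κ := K) hQ hQ1 hQm mn mA mB mC mY mF
      (fun h => pow_ne_zero 2 hQ1 (by rw [h, zero_mul] at hκ; exact hκ.symm))
      (by apply Rat.cast_injective (α := ℂ); push_cast at q1 ⊢; linear_combination q1)
      (by apply Rat.cast_injective (α := ℂ); push_cast at q2 ⊢; linear_combination q2)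
      (by apply Rat.cast_injective (α := ℂ); push_cast at q3 ⊢; linear_combination q3)
  · rw [a0, a1, a2] at q1
    rw [a0, a3] at q2
    rw [a1, a3, a5] at q3
    have h := wreathed_scaled (n := (n : ℚ) + C - B) (B := (C : ℚ)) (C := (B : ℚ)) hQ hQ1 hQm
      (fun e => mF (by linear_combination -e)) (fun e => mA (by linear_combination e)) mC mB
      (fun e => mY (by linear_combination e)) (fun e => mn (by linear_combination -e)) hκ
      (by
        rw [show (n : ℚ) + C - B - C = n - B by ring, neg_div, ← one_div_neg_eq_neg_one_div,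
          show -((n : ℚ) + C - B) = B - n - C by ring]
        apply Rat.cast_injective (α := ℂ); push_cast at q3 ⊢; linear_combination q3)
      (by
        rw [show -((n : ℚ) + C - B) - B = -n - C by ring, show (n : ℚ) + C - B = -((B : ℚ) - n - C) by ring,
          one_div_neg_eq_neg_one_div]
        apply Rat.cast_injective (α := ℂ); push_cast at q1 q2 q3 ⊢; linear_combination q2 + q1 - q3)
      (by
        rw [show (n : ℚ) + C - B - C = n - B by ring, show (C : ℚ) - ((n : ℚ) + C - B) - B = -n by ring, div_neg]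
        apply Rat.cast_injective (α := ℂ); push_cast at q1 ⊢; linear_combination q1)
    have h' : n + C - B = 1 := by
      have : ((n + C - B : ℤ) : ℚ) = 1 := by push_cast; exact h
      exact_mod_cast this
    exact (hdeg 5).2 (by rw [k5, show B - n - C = -1 by omega]; norm_num)

end CfsgLib.BrauerTwist
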