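import Mathlib.Tactic
import Mathlib.NumberTheory.Padics.PadicVal.Basic

/-!
# Arithmetic of the twisted system at an odd prime `r`

`n, B, C` are the twisted signed degrees, `B₀, C₀` the principal ones, `a = v_r |G : C|`.

Blueprint: `blueprint/RankTwo_P9.md`.
-/

set_option autoImplicit false
set_option linter.style.haveILetI false

namespace CfsgLib.BrauerTwist.ModArith

variable {r : ℕ} [hr : Fact r.Prime]

local notation "v" => padicValInt r

theorem val_mul {a b : ℤ} (ha : a ≠ 0) (hb : b ≠ 0) : v (a * b) = v a + v b := padicValInt.mul ha hb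

theorem val_sq {a : ℤ} (ha : a ≠ 0) : v (a ^ 2) = 2 * v a := by
  rw [sq, val_mul ha ha]; ring

theorem val_neg (a : ℤ) : v (-a) = v a := by simp [padicValInt]

theorem dvd_iff_le {k : ℕ} {a : ℤ} (ha : a ≠ 0) : (r : ℤ) ^ k ∣ a ↔ k ≤ v a :=
  ⟨fun h => ((padicValInt_dvd_iff k a).1 h).resolve_left ha, fun h => (padicValInt_dvd_iff k a).2 (Or.inr h)⟩

/-- The smaller valuation wins. -/
theorem val_add {a b : ℤ} (hb : b ≠ 0) (h : a = 0 ∨ v b < v a) : a + b ≠ 0 ∧ v (a + b) = v b := by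
  rcases h with rfl | h
  · simp [hb]
  have hd : (r : ℤ) ^ (v b + 1) ∣ a := (padicValInt_dvd_iff _ _).2 (Or.inr (by omega))
  have hn : ¬ (r : ℤ) ^ (v b + 1) ∣ a + b := fun hd' => by
    have := (dvd_iff_le hb).1 ((dvd_add_right hd).1 hd')
    omega
  have h0 : a + b ≠ 0 := fun e => hn (e ▸ dvd_zero _)
  refine ⟨h0, le_antisymm ?_ ?_⟩
  · by_contra hgt
    exact hn ((dvd_iff_le h0).2 (by omega))
  · exact (dvd_iff_le h0).1 (dvd_add ((pow_dvd_pow _ (by omega)).trans hd) (padicValInt_dvd b))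

theorem val_one : v (1 : ℤ) = 0 := by simp

theorem val_eq_zero {a : ℤ} (h : ¬ (r : ℤ) ∣ a) : v a = 0 := padicValInt.eq_zero_of_not_dvd h

/-- The conditions given by the blocks at `r`. -/
structure Cond (r a : ℕ) (Q n B C B₀ C₀ : ℤ) : Prop where
  hQ : Q ≠ 0
  hQm : Q - 1 ≠ 0
  hE : ¬ (r : ℤ) ∣ Q + 1
  ha : 1 ≤ a
  hr2 : r ≠ 2
  hn : n ≠ 0
  hB : B ≠ 0
  hB₀ : B₀ ≠ 0
  hβ : B₀ - 1 ≠ 0
  hC₀ : C₀ ≠ 0
  hY₀ : 1 + C₀ ≠ 0
  hS : Q ^ 2 - B₀ ≠ 0
  eqC₀ : C₀ * (Q ^ 2 - B₀) = Q ^ 2 * (B₀ - 1)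
  eqC : C * (n * Q ^ 2 - B) = n * Q ^ 2 * (B - n)
  hsum : B₀ + Q ≠ 0
  eqV : a + 2 * padicValInt r (B₀ + Q) = padicValInt r Q + padicValInt r B₀ + padicValInt r (B₀ - 1)
  cross : (B + n * Q) ^ 2 * (B₀ * (B₀ - 1)) = n * (B * (B - n) * (B₀ + Q) ^ 2)
  x0 : padicValInt r n ≠ a
  onlyTwo : padicValInt r B₀ = a + padicValInt r Q → padicValInt r (B₀ - 1) ≠ a → B = B₀
  onlyOne : padicValInt r (B₀ - 1) = a → padicValInt r B₀ ≠ a + padicValInt r Q → n - B = 1 - B₀
  onlyThree : padicValInt r C₀ = a + padicValInt r Q → padicValInt r (1 + C₀) ≠ a + padicValInt r (Q - 1) → C = C₀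
  onlyFour : padicValInt r (1 + C₀) = a + padicValInt r (Q - 1) → padicValInt r C₀ ≠ a + padicValInt r Q →
    n + C = 1 + C₀

/-- **The conditions leave only linear degrees.** -/
theorem Cond.degree {a : ℕ} {Q n B C B₀ C₀ : ℤ} (h : Cond r a Q n B C B₀ C₀) : n = 1 ∨ B - n - C = -1 := by
  obtain ⟨hQ, hQm, hE, ha, hr2, hn, hB, hB₀, hβ, hC₀, hY₀, hS, eqC₀, eqC, hsum, eqV, cross, x0, o2, o1, o3, o4⟩ := h
  refine or_iff_not_imp_left.2 fun hn1 => ?_
  have hn1' : n - 1 ≠ 0 := sub_ne_zero.2 hn1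
  have hp := Nat.prime_iff_prime_int.1 hr.out
  have hQ2 : Q ^ 2 ≠ 0 := pow_ne_zero 2 hQ
  have hE0 : Q + 1 ≠ 0 := fun e => hE (e ▸ dvd_zero _)
  have hve : v (Q + 1) = 0 := val_eq_zero hE
  have hvC : v C₀ + v (Q ^ 2 - B₀) = 2 * v Q + v (B₀ - 1) := by
    rw [← val_mul hC₀ hS, eqC₀, val_mul hQ2 hβ, val_sq hQ]
  have hvY : v (1 + C₀) + v (Q ^ 2 - B₀) = v B₀ + v (Q - 1) := by
    rw [← val_mul hY₀ hS, show (1 + C₀) * (Q ^ 2 - B₀) = B₀ * ((Q - 1) * (Q + 1)) by linear_combination eqC₀,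
      val_mul hB₀ (mul_ne_zero hQm hE0), val_mul hQm hE0, hve, add_zero]
  -- the case of the second character
  have caseB : B = B₀ → n * (Q ^ 2 + B₀ + 2 * Q) = B₀ * (B₀ - 1) := by
    intro hB'
    rw [hB'] at cross
    have e : (n - 1) * B₀ ^ 2 * (n * (Q ^ 2 + B₀ + 2 * Q) - B₀ * (B₀ - 1)) = 0 := by linear_combination cross
    exact sub_eq_zero.1 ((mul_eq_zero.1 e).resolve_left (mul_ne_zero hn1' (pow_ne_zero 2 hB₀)))
  have h2 : v (2 * Q) = v Q := by
    rw [val_mul two_ne_zero hQ, val_eq_zero, zero_add]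
    intro hd
    exact hr2 ((Nat.prime_dvd_prime_iff_eq hr.out Nat.prime_two).1 (Int.natCast_dvd_natCast.1 (by exact_mod_cast hd)))
  by_cases hm : v Q = 0
  · by_cases hb : v B₀ = 0
    · -- the first character
      have hβ' : 1 ≤ v (B₀ - 1) := by omega
      have hbQ : v (B₀ + Q) = 0 := by
        have := (val_add (r := r) hE0 (a := B₀ - 1) (Or.inr (by omega))).2
        rwa [hve, show B₀ - 1 + (Q + 1) = B₀ + Q by ring] at this
      have hA := o1 (by omega) (by omega)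
      obtain rfl : B = n + (B₀ - 1) := by omega
      have e : (n - 1) * ((B₀ - 1) * (n * (Q ^ 2 - B₀) - (B₀ - 1) * B₀)) = 0 := by
        refine mul_left_cancel₀ hβ ?_
        linear_combination cross
      have e1 : n * (Q ^ 2 - B₀) = (B₀ - 1) * B₀ :=
        sub_eq_zero.1 ((mul_eq_zero.1 ((mul_eq_zero.1 e).resolve_left hn1')).resolve_left hβ)
      have e2 : (Q ^ 2 - B₀) * (n * Q ^ 2 - (n + (B₀ - 1))) = (B₀ - 1) ^ 2 * Q ^ 2 := by
        linear_combination (Q ^ 2 - 1) * e1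
      have hCB : C = B₀ := by
        refine mul_left_cancel₀ (mul_ne_zero (pow_ne_zero 2 hβ) hQ2) ?_
        linear_combination -C * e2 + (Q ^ 2 - B₀) * eqC + Q ^ 2 * (B₀ - 1) * e1
      omega
    · -- the second and fourth characters
      have hβ0 : v (B₀ - 1) = 0 := by
        have := (val_add (r := r) (b := (-1 : ℤ)) (by norm_num) (a := B₀)
          (Or.inr (by rw [val_neg, val_one]; omega))).2
        rwa [val_neg, val_one, ← sub_eq_add_neg] at this
      have hbQ : v (B₀ + Q) = 0 := by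
        have := (val_add (r := r) hQ (a := B₀) (Or.inr (by omega))).2
        rwa [hm] at this
      have hs0 : v (Q ^ 2 - B₀) = 0 := by
        have := (val_add (r := r) hQ2 (a := -B₀) (Or.inr (by rw [val_neg, val_sq hQ]; omega))).2
        rwa [val_sq hQ, hm, mul_zero, show -B₀ + Q ^ 2 = Q ^ 2 - B₀ by ring] at this
      have hB' := o2 (by omega) (by omega)
      have hY := o4 (by omega) (by omega)
      exfalso
      rw [hB'] at eqC
      have e : (n - 1) * ((1 + C₀) * B₀) = 0 := by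
        linear_combination eqC - (n * Q ^ 2 - B₀) * hY - n * eqC₀
      exact mul_ne_zero hn1' (mul_ne_zero hY₀ hB₀) e
  · -- `r` divides `Q`
    exfalso
    have hrQ : (r : ℤ) ∣ Q := by
      have := (dvd_iff_le (r := r) (k := 1) hQ).2 (by omega)
      rwa [pow_one] at this
    have hQm0 : v (Q - 1) = 0 := val_eq_zero fun hd => hp.not_isUnit (isUnit_of_dvd_one (by
      simpa using dvd_sub hrQ hd))
    have hrQ2 : v Q < v (Q ^ 2) := by rw [val_sq hQ]; omega
    rcases lt_trichotomy (v B₀) (v Q) with hb | hb | hb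
    · have hbQ : v (B₀ + Q) = v B₀ := by
        rw [add_comm]; exact (val_add hB₀ (Or.inr hb)).2
      have hs : v (Q ^ 2 - B₀) = v B₀ := by
        have := (val_add (r := r) (b := -B₀) (neg_ne_zero.2 hB₀) (a := Q ^ 2)
          (Or.inr (by rw [val_neg]; omega))).2
        rwa [val_neg, ← sub_eq_add_neg] at this
      have hC' := o3 (by omega) (by omega)
      rw [hC'] at eqC
      have hvC' : v Q < v C₀ := by omega
      have hX : C₀ + n * Q ^ 2 ≠ 0 := fun e => by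
        have h0 : n * (1 - Q ^ 2) * (n * Q ^ 2) = 0 := by
          linear_combination eqC + (B + n * Q ^ 2 * (1 - 1)) * e - e * (n * Q ^ 2)
        exact mul_ne_zero (mul_ne_zero hn (fun h => mul_ne_zero hQm hE0 (by linear_combination -h)))
          (mul_ne_zero hn hQ2) h0
      have hX₀ : C₀ + Q ^ 2 ≠ 0 := fun e => by
        have h0 : (1 - Q ^ 2) * Q ^ 2 = 0 := by
          linear_combination eqC₀ + B₀ * e - Q ^ 2 * e
        exact mul_ne_zero (fun h => mul_ne_zero hQm hE0 (by linear_combination -h)) hQ2 h0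
      have u1 : B * (C₀ + n * Q ^ 2) = n * Q ^ 2 * (C₀ + n) := by linear_combination -eqC
      have u0 : B₀ * (C₀ + Q ^ 2) = Q ^ 2 * (C₀ + 1) := by linear_combination -eqC₀
      have u2 : (B - n) * (C₀ + n * Q ^ 2) = n * C₀ * (Q ^ 2 - 1) := by linear_combination u1
      have u3 : (B₀ - 1) * (C₀ + Q ^ 2) = C₀ * (Q ^ 2 - 1) := by linear_combination u0
      have u4 : (B + n * Q) * (C₀ + n * Q ^ 2) = n * Q * (Q + 1) * (C₀ + n * Q) := by linear_combination u1
      have u5 : (B₀ + Q) * (C₀ + Q ^ 2) = Q * (Q + 1) * (C₀ + Q) := by linear_combination u0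
      set K := n ^ 2 * (Q ^ 2) ^ 2 * (Q + 1) ^ 2 * C₀ * (Q ^ 2 - 1)
      have hK : K ≠ 0 := mul_ne_zero (mul_ne_zero (mul_ne_zero (mul_ne_zero (pow_ne_zero 2 hn) (pow_ne_zero 2 hQ2))
        (pow_ne_zero 2 hE0)) hC₀) (fun h => mul_ne_zero hQm hE0 (by linear_combination h))
      have e : K * ((C₀ + n * Q) ^ 2 * (C₀ + 1)) = K * (n * (C₀ + n) * (C₀ + Q) ^ 2) := by
        calc K * ((C₀ + n * Q) ^ 2 * (C₀ + 1))
            = ((B + n * Q) * (C₀ + n * Q ^ 2)) ^ 2 * ((B₀ * (C₀ + Q ^ 2)) * ((B₀ - 1) * (C₀ + Q ^ 2))) := by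
              rw [u4, u0, u3]; ring
          _ = (B + n * Q) ^ 2 * (B₀ * (B₀ - 1)) * ((C₀ + n * Q ^ 2) * (C₀ + Q ^ 2)) ^ 2 := by ring
          _ = n * (B * (B - n) * (B₀ + Q) ^ 2) * ((C₀ + n * Q ^ 2) * (C₀ + Q ^ 2)) ^ 2 := by rw [cross]
          _ = n * ((B * (C₀ + n * Q ^ 2)) * ((B - n) * (C₀ + n * Q ^ 2))) * ((B₀ + Q) * (C₀ + Q ^ 2)) ^ 2 := by ring
          _ = K * (n * (C₀ + n) * (C₀ + Q) ^ 2) := by rw [u1, u2, u5]; ring
      have e1 : (n - 1) * C₀ * (n * (Q ^ 2 - C₀ - 2 * Q) - C₀ * (C₀ + 1)) = 0 := by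
        linear_combination mul_left_cancel₀ hK e
      have h0 : n * (Q ^ 2 - C₀ - 2 * Q) = C₀ * (C₀ + 1) :=
        sub_eq_zero.1 ((mul_eq_zero.1 e1).resolve_left (mul_ne_zero hn1' hC₀))
      have hbr : Q ^ 2 - C₀ + -(2 * Q) ≠ 0 ∧ v (Q ^ 2 - C₀ + -(2 * Q)) = v (-(2 * Q)) := by
        refine val_add (neg_ne_zero.2 (mul_ne_zero two_ne_zero hQ)) (or_iff_not_imp_left.2 fun hne => ?_)
        rw [val_neg, h2]
        exact (dvd_iff_le hne).1 (dvd_sub ((dvd_iff_le hQ2).2 (by omega)) ((dvd_iff_le hC₀).2 (by omega)))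
      rw [val_neg, h2, ← sub_eq_add_neg] at hbr
      have hC1 : C₀ + 1 ≠ 0 ∧ v (C₀ + 1) = v (1 : ℤ) := val_add one_ne_zero (Or.inr (by rw [val_one]; omega))
      have h3 := congrArg (fun t => padicValInt r t) h0
      simp only [val_mul hn hbr.1, val_mul hC₀ hC1.1, hC1.2, hbr.2, val_one] at h3
      exact x0 (by omega)
    · have hβ0 : v (B₀ - 1) = 0 := by
        have := (val_add (r := r) (b := (-1 : ℤ)) (by norm_num) (a := B₀)
          (Or.inr (by rw [val_neg, val_one]; omega))).2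
        rwa [val_neg, val_one, ← sub_eq_add_neg] at this
      have hle : v Q ≤ v (B₀ + Q) :=
        (dvd_iff_le hsum).1 (dvd_add ((dvd_iff_le hB₀).2 hb.ge) ((dvd_iff_le hQ).2 le_rfl))
      omega
    · have hβ0 : v (B₀ - 1) = 0 := by
        have := (val_add (r := r) (b := (-1 : ℤ)) (by norm_num) (a := B₀)
          (Or.inr (by rw [val_neg, val_one]; omega))).2
        rwa [val_neg, val_one, ← sub_eq_add_neg] at this
      have hbQ : v (B₀ + Q) = v Q := (val_add hQ (Or.inr hb)).2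
      have h0 := caseB (o2 (by omega) (by omega))
      have hbr : Q ^ 2 + B₀ + 2 * Q ≠ 0 ∧ v (Q ^ 2 + B₀ + 2 * Q) = v (2 * Q) := by
        refine val_add (mul_ne_zero two_ne_zero hQ) (or_iff_not_imp_left.2 fun hne => ?_)
        rw [h2]
        exact (dvd_iff_le hne).1 (dvd_add ((dvd_iff_le hQ2).2 (by omega)) ((dvd_iff_le hB₀).2 (by omega)))
      rw [h2] at hbr
      have h3 := congrArg (fun t => padicValInt r t) h0
      simp only [val_mul hn hbr.1, val_mul hB₀ hβ, hbr.2, hβ0] at h3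
      exact x0 (by omega)

end CfsgLib.BrauerTwist.ModArith
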