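import Cfsg.Agent.Lib.BrauerTwist.Semidihedral
import Cfsg.Agent.Lib.BrauerTwist.ModularArith
import Cfsg.Agent.Lib.Blocks.Vanishing

/-!
# The twisted system at an odd prime

A character of prime order `r` does not change the twisted functions at `r`-regular elements, so their parts in
the `r`-blocks with unit central character at the involution agree with those of the principal system.

Blueprint: `blueprint/RankTwo_P9.md`.
-/

set_option autoImplicit false
set_option linter.unusedSectionVars false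
set_option linter.style.haveILetI false

namespace CfsgLib.BrauerTwist

open Cfsg CfsgLib.CharTheory CfsgLib.BrauerOrder CfsgLib.Blocks
open scoped ComplexConjugate

universe u v

variable {G : Type u} [Group G] [Fintype G] {z : G} {r : ℕ} {M : Ideal AlgInt}

/-- The characters whose central character at `g` is a unit at `M`. -/
def unitAt (M : Ideal AlgInt) (g : G) : Set (IrrCharacter G) :=
  {χ | ¬ MemLocalIdeal M (centralChar (χ : G → ℂ) g)}

theorem unitAt_blocks (hM : IsPModular r M) (g : G) :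
    ∀ ψ ∈ unitAt M g, blockOf M (ψ : G → ℂ) ⊆ unitAt M g := by
  intro ψ hψ φ hφ hmem
  refine hψ ?_
  have h := memIdeal_add hM (hφ g) hmem
  rwa [sub_add_cancel] at h

theorem memIdeal_intCast_iff (hM : IsPModular r M) (w : ℤ) : MemLocalIdeal M (w : ℂ) ↔ (r : ℤ) ∣ w := by
  haveI : CharP (AlgInt ⧸ M) r := res_charP hM
  rw [← res_eq_zero_iff hM (memRing_intCast hM w), ← CharP.intCast_eq_zero_iff (AlgInt ⧸ M) r w,
    show Blocks.res hM (w : ℂ) = (w : AlgInt ⧸ M) from map_intCast (resHom hM) w]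

/-- The membership of a signed character with integral degree and value. -/
theorem mem_unitAt [Fact r.Prime] (hM : IsPModular r M) {χ : IrrCharacter G} {ε : ℂ} (hε : ε = 1 ∨ ε = -1)
    {c d : ℤ} (hc : (ε • (χ : G → ℂ)) z = (c : ℂ)) (hd : (ε • (χ : G → ℂ)) 1 = (d : ℂ)) (hc0 : c ≠ 0) :
    χ ∈ unitAt M z ↔ padicValInt r d =
      padicValNat r (Subgroup.centralizer ({z} : Set G)).index + padicValInt r c := by
  set N := (Subgroup.centralizer ({z} : Set G)).index with hN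
  have hN0 : N ≠ 0 := Subgroup.index_ne_zero_of_finite
  have he : ε ≠ 0 := by rcases hε with rfl | rfl <;> norm_num
  have hd0 : (d : ℂ) ≠ 0 := by
    rw [← hd]; exact mul_ne_zero he (irr_ne_zero χ.2)
  have hω : centralChar (χ : G → ℂ) z = (N : ℂ) * c / d := by
    rw [centralChar, ← hN, ← hc, ← hd, Pi.smul_apply, Pi.smul_apply, smul_eq_mul, smul_eq_mul,
      mul_left_comm, mul_div_mul_left _ _ he]
  obtain ⟨w, hw⟩ : ∃ w : ℤ, centralChar (χ : G → ℂ) z = (w : ℂ) := by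
    have hint : IsIntegral ℤ (centralChar (χ : G → ℂ) z) := isIntegral_clv z χ
    rw [hω, show ((N : ℂ) * c / d) = (((N : ℚ) * c / d : ℚ) : ℂ) by push_cast; rfl] at hint
    obtain ⟨w, hw⟩ := exists_int_of_isIntegral_ratCast hint
    refine ⟨w, ?_⟩
    rw [hω, show ((N : ℂ) * c / d) = (((N : ℚ) * c / d : ℚ) : ℂ) by push_cast; rfl, hw]
    norm_cast
  have hwd : w * d = (N : ℤ) * c := by
    apply Int.cast_injective (α := ℂ)
    push_cast
    rw [← hw, hω, div_mul_cancel₀ _ hd0]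
  have hN0' : (N : ℤ) ≠ 0 := Int.natCast_ne_zero.2 hN0
  have hw0 : w ≠ 0 := fun e => mul_ne_zero hN0' hc0 (by rw [← hwd, e, zero_mul])
  have hd0' : d ≠ 0 := fun e => hd0 (by rw [e]; norm_num)
  have hv := congrArg (padicValInt r) hwd
  rw [padicValInt.mul hw0 hd0', padicValInt.mul hN0' hc0, padicValInt.of_nat] at hv
  rw [unitAt, Set.mem_setOf_eq, hw, memIdeal_intCast_iff hM]
  constructor
  · intro h
    rw [padicValInt.eq_zero_of_not_dvd h, zero_add] at hv
    exact hv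
  · intro h hdvd
    have : 1 ≤ padicValInt r w := ((padicValInt_dvd_iff 1 w).1 (by simpa using hdvd)).resolve_left hw0
    omega

variable [Fintype (Cz z)] {Ω : Type v} [MulAction (Cz z) Ω] {D : Sys G z}

/-- A character of exponent `r` does not change induced functions at `r`-regular elements. -/
theorem upT_congr_regular [Fact r.Prime] {θ : Cz z →* ℂˣ} (hθ : ∀ c, θ c ^ r = 1) (f : Cz z → ℂ) {g : G}
    (hg : ¬ r ∣ orderOf g) : upT θ f g = upT 1 f g := by
  simp only [upT, indFun]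
  congr 1
  refine Finset.sum_congr rfl fun x _ => ?_
  by_cases hx : x⁻¹ * g * x ∈ Subgroup.centralizer ({z} : Set G)
  · rw [extendByZero_of_mem _ _ hx, extendByZero_of_mem _ _ hx]
    have hco : Nat.Coprime (orderOf (⟨x⁻¹ * g * x, hx⟩ : Cz z)) r := by
      refine Nat.Coprime.symm ((Nat.Prime.coprime_iff_not_dvd Fact.out).2 ?_)
      rw [← Subgroup.orderOf_coe]
      show ¬ r ∣ orderOf (x⁻¹ * g * x)
      rwa [show x⁻¹ * g * x = x⁻¹ * g * x⁻¹⁻¹ by rw [inv_inv], conj_orderOf]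
    have h1 : θ ⟨x⁻¹ * g * x, hx⟩ = 1 := by
      rw [← pow_one (θ _), ← hco.gcd_eq_one]
      exact pow_gcd_eq_one.mpr ⟨by rw [← map_pow, pow_orderOf_eq_one, map_one], hθ _⟩
    simp only [tw, h1, MonoidHom.one_apply]
  · rw [extendByZero_of_not_mem _ _ hx, extendByZero_of_not_mem _ _ hx]

/-- A small linear equation. -/
theorem lin_zero {Q a b : ℤ} (hQ : Q ≤ -3 ∨ 3 ≤ Q) (ha : -2 ≤ a ∧ a ≤ 2) (h : a + Q * b = 0) : a = 0 ∧ b = 0 := by
  have hb : b = 0 := by
    by_contra hb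
    rcases Int.lt_or_lt_of_ne hb with hb | hb <;> rcases hQ with hQ | hQ <;> nlinarith
  subst hb
  exact ⟨by simpa using h, rfl⟩

variable [Finite Ω] (hD : D.Spec Ω)
include hD

/-- **No character of prime order in the semidihedral case.** -/
theorem sd_false [IsSimpleGroup G] [Fact r.Prime] (hnc : ¬ IsMulCommutative G) (h2 : Nat.card D.core.Z = 2)
    {θ : Cz z →* ℂˣ} (hθ : IsField θ r) (h1 : θ ≠ 1) (hN : Odd (Subgroup.centralizer ({z} : Set G)).index)
    {i : ℕ} (hidx : Nat.card (Cz z) =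
      Nat.card (Subgroup.centralizer ({(D.w : G), z} : Set G)) * i * (D.Q * (D.Q + 1)).natAbs)
    (hri : ¬ r ∣ i) (hrE : ¬ (r : ℤ) ∣ D.Q + 1) (hrN : r ∣ (Subgroup.centralizer ({z} : Set G)).index) :
    False := by
  classical
  have hgen := hgen_all hD
  obtain ⟨M₂, hM₂⟩ := exists_isPModular Nat.prime_two
  obtain ⟨M, hM⟩ := exists_isPModular (p := r) Fact.out
  obtain ⟨e, he⟩ := exists_six hD hgen (M := M₂) hM₂
  obtain ⟨x, hx⟩ := exists_sixT (θ := θ) hD hgen
  have hxe := SixT.of_six he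
  obtain ⟨n, B, C, s, hs, hsθ, X⟩ := sd_data hD h2 hθ hx hN hidx
  obtain ⟨n₀, B₀, C₀, s₀, -, hsθ₀, E⟩ := sd_data hD h2 IsField.one hxe hN hidx
  obtain rfl : s₀ = s := by exact_mod_cast hsθ₀.symm.trans hsθ
  obtain rfl : n₀ = 1 := by
    have := E.d0
    rw [he.zero] at this
    change (1 : ℂ) = (n₀ : ℂ) at this
    exact_mod_cast this.symm
  have hdeg := deg_ne hD hnc hθ h1 hgen hx
  set N := (Subgroup.centralizer ({z} : Set G)).index with hNdef
  set a := padicValNat r N with hadef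
  have ha : 1 ≤ a := one_le_padicValNat_of_dvd hN.pos.ne' hrN
  set U := unitAt (G := G) M z
  choose χ ε hε hχ using fun j => exists_irr (hx.orth.signed j)
  choose χ' ε' hε' hχ' using fun j => exists_irr (hxe.orth.signed j)
  let p : Fin 6 → ℤ := fun j => if χ j ∈ U then 1 else 0
  let q : Fin 6 → ℤ := fun j => if χ' j ∈ U then 1 else 0
  have hp01 : ∀ j, p j = 0 ∨ p j = 1 := fun j => by simp only [p]; split_ifs <;> simp
  have hq01 : ∀ j, q j = 0 ∨ q j = 1 := fun j => by simp only [q]; split_ifs <;> simp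
  have hpart : ∀ j y, part U (x j) y = (p j : ℂ) * x j y := fun j y => by
    rw [hχ j, part_smul, Pi.smul_apply, smul_eq_mul]; simp only [p]; split_ifs <;> simp
  have qpart : ∀ j y, part U (e j) y = (q j : ℂ) * e j y := fun j y => by
    rw [hχ' j, part_smul, Pi.smul_apply, smul_eq_mul]; simp only [q]; split_ifs <;> simp
  have hr2 : r ≠ 2 := fun h => absurd (h ▸ hθ.odd) (by decide)
  have hQb : D.Q ≤ -3 ∨ 3 ≤ D.Q := by
    have h3 : (3 : ℤ) ≤ D.core.q := by exact_mod_cast hD.core.qlb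
    rcases hD.core.sgn true with h | h <;> rw [Sys.Q, h] <;> omega
  have hU := unitAt_blocks hM z
  have hΔ : ∀ f : Cz z → ℂ, ∀ y, ¬ r ∣ orderOf y → part U (upT θ f) y = part U (upT 1 f) y := fun f y hy =>
    sub_eq_zero.1 (by
      rw [← part_sub]
      exact part_eq_zero hM hU (fun g hg => by rw [Pi.sub_apply, upT_congr_regular hθ.pow f hg, sub_self]) hy)
  have hy1 : ¬ r ∣ orderOf (1 : G) := by
    rw [orderOf_one, Nat.dvd_one]; exact (Fact.out : r.Prime).ne_one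
  have hyz : ¬ r ∣ orderOf z := by
    rw [hD.zord]
    exact fun h => hr2 ((Nat.prime_dvd_prime_iff_eq Fact.out Nat.prime_two).1 h)
  -- the three pairs of parts
  have k1 : ∀ y, ¬ r ∣ orderOf y → -((p 0 : ℂ) * x 0 y) + (p 1 : ℂ) * x 1 y + (p 2 : ℂ) * x 2 y =
      -((q 0 : ℂ) * e 0 y) + (q 1 : ℂ) * e 1 y + (q 2 : ℂ) * e 2 y := fun y hy => by
    have h := hΔ (D.th1 Ω) y hy
    rwa [hx.th1, hxe.th1, part_add, part_add, part_neg, part_add, part_add, part_neg, hpart, hpart, hpart, qpart,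
      qpart, qpart] at h
  have k2 : ∀ y, ¬ r ∣ orderOf y → (p 1 : ℂ) * x 1 y + (p 3 : ℂ) * x 3 y + (p 5 : ℂ) * x 5 y =
      (q 1 : ℂ) * e 1 y + (q 3 : ℂ) * e 3 y + (q 5 : ℂ) * e 5 y := fun y hy => by
    have h := hΔ (D.th1' Ω) y hy
    rwa [hx.th1', hxe.th1', part_add, part_add, part_add, part_add, hpart, hpart, hpart, qpart, qpart, qpart] at h
  have k3 : ∀ y, ¬ r ∣ orderOf y → (p 0 : ℂ) * x 0 y + (p 4 : ℂ) * x 4 y + (p 3 : ℂ) * x 3 y =
      (q 0 : ℂ) * e 0 y + (q 4 : ℂ) * e 4 y + (q 3 : ℂ) * e 3 y := fun y hy => by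
    have h := hΔ (D.th2 Ω) y hy
    rw [hx.th2, hxe.th2, part_neg, part_neg, neg_inj, part_add, part_add, part_add, part_add, hpart, hpart, hpart,
      qpart, qpart, qpart] at h
    exact h
  -- at the involution
  have z1 := k1 z hyz
  have z2 := k2 z hyz
  have z3 := k3 z hyz
  rw [X.v0, X.v1, X.v2, E.v0, E.v1, E.v2] at z1
  rw [X.v1, X.v3, X.v5, E.v1, E.v3, E.v5] at z2
  rw [X.v0, X.v4, X.v3, E.v0, E.v4, E.v3] at z3
  have o1 : ((p 0 - q 0) + (p 1 - q 1)) + D.Q * ((p 1 - q 1) + (p 2 - q 2)) = 0 := by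
    apply Int.cast_injective (α := ℂ); push_cast; linear_combination -z1
  have o2 : ((p 1 - q 1) + (p 5 - q 5)) + D.Q * ((p 1 - q 1) + (p 3 - q 3)) = 0 := by
    apply Int.cast_injective (α := ℂ); push_cast; linear_combination -z2
  have o3 : ((p 0 - q 0) - s₀ * (p 4 - q 4)) + D.Q * (s₀ * (p 4 - q 4) - (p 3 - q 3)) = 0 := by
    apply Int.cast_injective (α := ℂ); push_cast; linear_combination z3
  have hsd : -1 ≤ s₀ * (p 4 - q 4) ∧ s₀ * (p 4 - q 4) ≤ 1 := by
    rcases hs with rfl | rfl <;> rcases hp01 4 with h | h <;> rcases hq01 4 with h' | h' <;> simp [h, h']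
  obtain ⟨a1, b1⟩ := lin_zero hQb (by
    rcases hp01 0 with h | h <;> rcases hq01 0 with h' | h' <;> rcases hp01 1 with j | j <;>
      rcases hq01 1 with j' | j' <;> omega) o1
  obtain ⟨a2, b2⟩ := lin_zero hQb (by
    rcases hp01 5 with h | h <;> rcases hq01 5 with h' | h' <;> rcases hp01 1 with j | j <;>
      rcases hq01 1 with j' | j' <;> omega) o2
  obtain ⟨a3, b3⟩ := lin_zero hQb (by rcases hp01 0 with h | h <;> rcases hq01 0 with h' | h' <;> omega) o3
  -- membership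
  have mX : ∀ j (c d : ℤ), x j z = (c : ℂ) → x j 1 = (d : ℂ) → c ≠ 0 →
      (p j = 1 ↔ padicValInt r d = a + padicValInt r c) := fun j c d hc hd hc0 => by
    rw [hχ j] at hc hd
    rw [← mem_unitAt hM (hε j) hc hd hc0]
    simp only [p]; split_ifs with h <;> simp [h, U]
  have mE : ∀ j (c d : ℤ), e j z = (c : ℂ) → e j 1 = (d : ℂ) → c ≠ 0 →
      (q j = 1 ↔ padicValInt r d = a + padicValInt r c) := fun j c d hc hd hc0 => by
    rw [hχ' j] at hc hd
    rw [← mem_unitAt hM (hε' j) hc hd hc0]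
    simp only [q]; split_ifs with h <;> simp [h, U]
  have hQ0 : D.Q ≠ 0 := by omega
  have hQ1 : D.Q + 1 ≠ 0 := by omega
  have hQm : D.Q - 1 ≠ 0 := by omega
  have hve : padicValInt r (D.Q + 1) = 0 := padicValInt.eq_zero_of_not_dvd hrE
  have q00 : q 0 = 0 := by
    refine (hq01 0).resolve_right fun h => ?_
    have := (mE 0 1 1 (by rw [E.v0]; norm_num) (by rw [E.d0]) one_ne_zero).1 h
    simp at this
    omega
  -- at the identity
  have u1 := k1 1 hy1
  have u2 := k2 1 hy1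
  have u3 := k3 1 hy1
  rw [X.d0, X.d1, X.d2, E.d0, E.d1, E.d2] at u1
  rw [X.d1, X.d3, X.d5, E.d1, E.d3, E.d5] at u2
  rw [X.d0, X.d4, X.d3, E.d0, E.d4, E.d3] at u3
  have U1 : -(p 0 * n) + p 1 * (n - B) + p 2 * B = -(q 0 * 1) + q 1 * (1 - B₀) + q 2 * B₀ := by exact_mod_cast u1
  have U3 : p 0 * n + p 4 * (-n - C) + p 3 * C = q 0 * 1 + q 4 * (-1 - C₀) + q 3 * C₀ := by exact_mod_cast u3
  have hv1 : ∀ {t : ℤ}, padicValInt r (-t) = padicValInt r t := fun {t} => by simp [padicValInt]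
  have p00 : p 0 = 0 := by
    refine (hp01 0).resolve_right fun h0 => ?_
    have e1 : q 1 = 1 ∧ p 1 = 0 := by rcases hp01 1 with j | j <;> rcases hq01 1 with j' | j' <;> omega
    have e2 : p 2 = 1 ∧ q 2 = 0 := by rcases hp01 2 with j | j <;> rcases hq01 2 with j' | j' <;> omega
    rw [h0, q00, e1.1, e1.2, e2.1, e2.2] at U1
    have h := (mE 1 (-(D.Q + 1)) (1 - B₀) (by rw [E.v1]; push_cast; ring) (by rw [E.d1])
      (neg_ne_zero.2 hQ1)).1 e1.1
    have h' := (mX 1 (-(D.Q + 1)) (n - B) (by rw [X.v1]; push_cast; ring) (by rw [X.d1]) (neg_ne_zero.2 hQ1)).2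
      (by rw [← h, ← hv1 (t := n - B)]; congr 1; linarith)
    omega
  obtain ⟨d1, d2, d3⟩ : p 1 = q 1 ∧ p 2 = q 2 ∧ p 3 = q 3 := by omega
  have d4 : p 4 = q 4 := by
    rcases hs with rfl | rfl <;> omega
  rw [p00, q00, d1, d2] at U1
  rw [p00, q00, d4, d3] at U3
  have x0' : padicValInt r n ≠ a := fun h => by
    have := (mX 0 1 n (by rw [X.v0]; norm_num) (by rw [X.d0]) one_ne_zero).2 (by simp [h])
    omega
  have m1 := mE 1 (-(D.Q + 1)) (1 - B₀) (by rw [E.v1]; push_cast; ring) (by rw [E.d1]) (neg_ne_zero.2 hQ1)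
  have m2 := mE 2 (-D.Q) B₀ (by rw [E.v2]; push_cast; ring) (by rw [E.d2]) (neg_ne_zero.2 hQ0)
  have m3 := mE 3 (-D.Q) C₀ (by rw [E.v3]; push_cast; ring) (by rw [E.d3]) (neg_ne_zero.2 hQ0)
  have hsne : s₀ * (D.Q - 1) ≠ 0 := mul_ne_zero (by rcases hs with rfl | rfl <;> norm_num) hQm
  have m4 := mE 4 (s₀ * (D.Q - 1)) (-1 - C₀) (by rw [E.v4]; push_cast; ring) (by rw [E.d4]) hsne
  have hvs : padicValInt r (s₀ * (D.Q - 1)) = padicValInt r (D.Q - 1) := by
    rcases hs with rfl | rfl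
    · rw [one_mul]
    · rw [neg_one_mul, hv1]
  rw [hv1, hve, add_zero, show 1 - B₀ = -(B₀ - 1) by ring, hv1] at m1
  rw [hv1] at m2 m3
  rw [show -1 - C₀ = -(1 + C₀) by ring, hv1, hvs] at m4
  have hri' : i ≠ 0 := fun h => hri (h ▸ dvd_zero r)
  -- the index
  have eN : (N : ℤ) * (B₀ + D.Q) ^ 2 = (i : ℤ) ^ 2 * (D.Q * (D.Q + 1) ^ 3 * B₀ * (B₀ - 1)) := by
    linear_combination E.eqN
  have hK : (i : ℤ) ^ 2 * (D.Q * (D.Q + 1) ^ 3) ≠ 0 := mul_ne_zero (pow_ne_zero 2 (Int.natCast_ne_zero.2 hri'))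
    (mul_ne_zero hQ0 (pow_ne_zero 3 hQ1))
  have hB₀ := E.hB
  have hβ : B₀ - 1 ≠ 0 := fun h => E.hA (by linarith)
  have hN0 : (N : ℤ) ≠ 0 := Int.natCast_ne_zero.2 hN.pos.ne'
  have hsum : B₀ + D.Q ≠ 0 := fun h => by
    rw [h] at eN
    refine mul_ne_zero hK (mul_ne_zero hB₀ hβ) ?_
    linear_combination -eN
  have eqV : a + 2 * padicValInt r (B₀ + D.Q) = padicValInt r D.Q + padicValInt r B₀ + padicValInt r (B₀ - 1) := by
    have h := congrArg (padicValInt r) eN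
    rw [padicValInt.mul hN0 (pow_ne_zero 2 hsum), padicValInt.of_nat,
      show (i : ℤ) ^ 2 * (D.Q * (D.Q + 1) ^ 3 * B₀ * (B₀ - 1)) =
        ((i : ℤ) * i) * ((D.Q * ((D.Q + 1) * ((D.Q + 1) * (D.Q + 1)))) * (B₀ * (B₀ - 1))) by ring,
      padicValInt.mul (mul_ne_zero (Int.natCast_ne_zero.2 hri') (Int.natCast_ne_zero.2 hri'))
        (mul_ne_zero (mul_ne_zero hQ0 (mul_ne_zero hQ1 (mul_ne_zero hQ1 hQ1))) (mul_ne_zero hB₀ hβ)),
      padicValInt.mul (Int.natCast_ne_zero.2 hri') (Int.natCast_ne_zero.2 hri'),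
      padicValInt.mul (mul_ne_zero hQ0 (mul_ne_zero hQ1 (mul_ne_zero hQ1 hQ1))) (mul_ne_zero hB₀ hβ),
      padicValInt.mul hQ0 (mul_ne_zero hQ1 (mul_ne_zero hQ1 hQ1)), padicValInt.mul hQ1 (mul_ne_zero hQ1 hQ1),
      padicValInt.mul hQ1 hQ1, padicValInt.mul hB₀ hβ, padicValInt.of_nat, padicValNat.eq_zero_of_not_dvd hri,
      hve, sq, padicValInt.mul hsum hsum] at h
    omega
  have cross : (B + n * D.Q) ^ 2 * (B₀ * (B₀ - 1)) = n * (B * (B - n) * (B₀ + D.Q) ^ 2) := by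
    refine mul_left_cancel₀ hK ?_
    linear_combination (B₀ + D.Q) ^ 2 * X.eqN - (B + n * D.Q) ^ 2 * eN
  have hS : D.Q ^ 2 - B₀ ≠ 0 := fun h => by
    have h' := E.eqC
    rw [one_mul, h, mul_zero] at h'
    exact mul_ne_zero (pow_ne_zero 2 hQ0) hβ h'.symm
  have hY₀ : 1 + C₀ ≠ 0 := fun h => E.hY (by linarith)
  have Q2 : ∀ {j : Fin 6}, ¬ (q j = 1) → q j = 0 := fun {j} h => (hq01 j).resolve_right h
  have hc : ModArith.Cond r a D.Q n B C B₀ C₀ :=
    { hQ := hQ0, hQm := hQm, hE := hrE, ha := ha, hr2 := hr2, hn := X.hn, hB := X.hB, hB₀ := hB₀, hβ := hβ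
      hC₀ := E.hC, hY₀ := hY₀, hS := hS
      eqC₀ := by linear_combination E.eqC
      eqC := X.eqC, hsum := hsum, eqV := eqV, cross := cross, x0 := x0'
      onlyTwo := fun h h' => by
        rw [m2.2 h, Q2 (mt m1.1 h')] at U1
        linarith
      onlyOne := fun h h' => by
        rw [m1.2 h, Q2 (mt m2.1 h')] at U1
        linarith
      onlyThree := fun h h' => by
        rw [m3.2 h, Q2 (mt m4.1 h')] at U3
        linarith
      onlyFour := fun h h' => by
        rw [m4.2 h, Q2 (mt m3.1 h')] at U3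
        linarith }
  rcases hc.degree with h | h
  · exact (hdeg 0).1 (by rw [X.d0, h, Int.cast_one])
  · exact (hdeg 5).2 (by rw [X.d5, h]; norm_num)

/-- **No consistent character of odd order.** -/
theorem eq_one [IsSimpleGroup G] (hnc : ¬ IsMulCommutative G) {θ : Cz z →* ℂˣ} {k : ℕ} (hθ : IsField θ k)
    (hsd : Nat.card D.core.Z = 2 → Odd (Subgroup.centralizer ({z} : Set G)).index ∧
      ∃ i : ℕ, Nat.card (Cz z) =
          Nat.card (Subgroup.centralizer ({(D.w : G), z} : Set G)) * i * (D.Q * (D.Q + 1)).natAbs ∧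
        ∀ r : ℕ, r.Prime → r ∣ k → r ∣ (Subgroup.centralizer ({z} : Set G)).index →
          ¬ r ∣ i ∧ ¬ (r : ℤ) ∣ D.Q + 1) :
    θ = 1 := by
  rcases delta_cases hD with ⟨h2, -, -⟩ | ⟨h4, -⟩
  swap
  · exact wreathed_eq_one hD hnc h4 hθ
  by_contra hne
  obtain ⟨hodd, i, hidx, hr⟩ := hsd h2
  have hk : θ ^ k = 1 := MonoidHom.ext fun c => hθ.pow c
  set m := orderOf θ with hm
  have hmk : m ∣ k := orderOf_dvd_of_pow_eq_one hk
  have hm0 : 0 < m := Nat.pos_of_ne_zero fun h => by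
    rw [h, zero_dvd_iff] at hmk
    exact hθ.odd.pos.ne' hmk
  have hm1 : m ≠ 1 := fun h => hne (orderOf_eq_one_iff.1 (hm.symm.trans h))
  obtain ⟨r, hrp, hrm⟩ := Nat.exists_prime_and_dvd hm1
  haveI : Fact r.Prime := ⟨hrp⟩
  set φ := θ ^ (m / r) with hφ
  have hφ1 : φ ≠ 1 := pow_ne_one_of_lt_orderOf (Nat.div_pos (Nat.le_of_dvd hm0 hrm) hrp.pos).ne'
    (Nat.div_lt_self hm0 hrp.one_lt)
  have hφp : ∀ c, φ c ^ r = 1 := fun c => by
    rw [hφ, MonoidHom.pow_apply, ← pow_mul, Nat.div_mul_cancel hrm, ← MonoidHom.pow_apply, hm,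
      pow_orderOf_eq_one, MonoidHom.one_apply]
  have hφF : IsField φ r := ⟨fun g a ha hga => by
    rw [hφ, MonoidHom.pow_apply, MonoidHom.pow_apply, hθ.cons g a ha hga],
    Odd.of_dvd_nat hθ.odd (hrm.trans hmk), hφp⟩
  by_cases hrN : r ∣ (Subgroup.centralizer ({z} : Set G)).index
  · obtain ⟨hri, hrE⟩ := hr r hrp (hrm.trans hmk) hrN
    exact sd_false hD hnc h2 hφF hφ1 hodd hidx hri hrE hrN
  · refine hφ1 (MonoidHom.ext fun c => ?_)
    rw [MonoidHom.one_apply, ← pow_one (φ c), ← (hrp.coprime_iff_not_dvd.2 hrN).gcd_eq_one]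
    exact pow_gcd_eq_one.mpr ⟨hφp c, RankTwoModel.FieldTransfer.pow_index_eq_one φ hnc hφF.cons c⟩

end CfsgLib.BrauerTwist
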