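import Cfsg.Agent.Lib.BrauerOrder.Isom
import Cfsg.Agent.Lib.Blocks.SecondMain

/-!
# Parts of functions for unions of blocks

A function vanishing on regular elements has its part for a union of blocks zero at regular elements.

Blueprint: `blueprint/RankTwo_P9.md`.
-/

set_option autoImplicit false
set_option linter.unusedSectionVars false

namespace CfsgLib.BrauerTwist

open Cfsg CfsgLib.CharTheory CfsgLib.BrauerOrder CfsgLib.Blocks
open scoped ComplexConjugate

universe u

variable {G : Type u} [Group G] [Fintype G]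

/-- The part of a function for a set of irreducible characters. -/
noncomputable def part (U : Set (IrrCharacter G)) (f : G → ℂ) (y : G) : ℂ :=
  ∑ χ ∈ bset U, classInner f (χ : G → ℂ) * (χ : G → ℂ) y

theorem part_add (U : Set (IrrCharacter G)) (f g : G → ℂ) (y : G) :
    part U (f + g) y = part U f y + part U g y := by
  simp only [part, classInner_add_left, add_mul, Finset.sum_add_distrib]

theorem part_neg (U : Set (IrrCharacter G)) (f : G → ℂ) (y : G) : part U (-f) y = -part U f y := by
  simp only [part, classInner_neg_left, neg_mul, Finset.sum_neg_distrib]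

theorem part_sub (U : Set (IrrCharacter G)) (f g : G → ℂ) (y : G) :
    part U (f - g) y = part U f y - part U g y := by
  rw [sub_eq_add_neg, part_add, part_neg, sub_eq_add_neg]

/-- A signed irreducible character is a signed member of `IrrCharacter G`. -/
theorem exists_irr {a : G → ℂ} (ha : IsSignedIrr a) :
    ∃ (χ : IrrCharacter G) (ε : ℂ), (ε = 1 ∨ ε = -1) ∧ a = ε • (χ : G → ℂ) := by
  rcases ha with h | h
  · exact ⟨⟨a, h⟩, 1, Or.inl rfl, by simp⟩
  · exact ⟨⟨-a, h⟩, -1, Or.inr rfl, by simp⟩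

open Classical in
theorem part_smul (U : Set (IrrCharacter G)) (χ : IrrCharacter G) (ε : ℂ) (y : G) :
    part U (ε • (χ : G → ℂ)) y = if χ ∈ U then ε * (χ : G → ℂ) y else 0 := by
  rw [part]
  split_ifs with h
  · rw [Finset.sum_eq_single χ, classInner_smul_left, classInner_irr_self χ.2, mul_one]
    · exact fun ψ _ hne => by
        rw [classInner_smul_left, classInner_irr_ne χ.2 ψ.2 (fun e => hne (Subtype.ext e.symm))]; simp
    · exact fun h' => absurd (mem_bset.2 h) h'
  · refine Finset.sum_eq_zero fun ψ hψ => ?_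
    rw [classInner_smul_left,
      classInner_irr_ne χ.2 ψ.2 (fun e => h ((Subtype.ext e : χ = ψ) ▸ mem_bset.1 hψ))]
    simp

variable {p : ℕ} {M : Ideal AlgInt}

/-- **The part of a function vanishing on regular elements.** -/
theorem part_eq_zero (hM : IsPModular p M) {U : Set (IrrCharacter G)}
    (hU : ∀ ψ ∈ U, blockOf M (ψ : G → ℂ) ⊆ U) {f : G → ℂ} (hf : ∀ g, ¬ p ∣ orderOf g → f g = 0) {y : G}
    (hy : ¬ p ∣ orderOf y) : part U f y = 0 := by
  classical
  have hsing : ∀ c : G, p ∣ orderOf c → ∑ ψ ∈ bset U, (ψ : G → ℂ) y * conj ((ψ : G → ℂ) c) = 0 := by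
    intro c hc
    rw [← Finset.sum_fiberwise_of_maps_to
      (t := Finset.univ.filter (fun b : Set (IrrCharacter G) => IsPBlock M b ∧ b ⊆ U))
      (g := fun ψ : IrrCharacter G => blockOf M (ψ : G → ℂ))
      (fun ψ hψ => Finset.mem_filter.2
        ⟨Finset.mem_univ _, blockOf_isPBlock ψ, hU ψ (mem_bset.1 hψ)⟩)]
    refine Finset.sum_eq_zero fun b hb => ?_
    obtain ⟨-, hbB, hbU⟩ := Finset.mem_filter.1 hb
    refine Eq.trans ?_ (weak_orth_conj hM hbB hy hc)
    refine Finset.sum_congr ?_ fun _ _ => rfl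
    ext ψ
    simp only [Finset.mem_filter, mem_bset]
    exact ⟨fun h => h.2 ▸ mem_blockOf_self hM ψ, fun h => ⟨hbU h, (eq_blockOf hM hbB h).symm⟩⟩
  simp only [part, classInner, Finset.mul_sum, Finset.sum_mul]
  rw [Finset.sum_comm]
  refine Finset.sum_eq_zero fun c _ => ?_
  by_cases hc : p ∣ orderOf c
  · calc ∑ χ ∈ bset U, (Nat.card G : ℂ)⁻¹ * (f c * conj ((χ : G → ℂ) c)) * (χ : G → ℂ) y
        = (Nat.card G : ℂ)⁻¹ * f c * ∑ χ ∈ bset U, (χ : G → ℂ) y * conj ((χ : G → ℂ) c) := by
          rw [Finset.mul_sum]; exact Finset.sum_congr rfl fun χ _ => by ring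
      _ = 0 := by rw [hsing c hc, mul_zero]
  · exact Finset.sum_eq_zero fun χ _ => by rw [hf c hc]; ring

end CfsgLib.BrauerTwist
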