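import Cfsg.Agent.Lib.BrauerTwist.Equations

/-!
# The two equations of the semidihedral twisted system

`i` is the excess of `|C : C(U)|` over `|Q (Q + 1)|`, `N` the index of the centraliser.

Blueprint: `blueprint/RankTwo_P9.md`.
-/

set_option autoImplicit false
set_option linter.unusedSectionVars false
set_option linter.style.haveILetI false

namespace CfsgLib.BrauerTwist

open Cfsg CfsgLib.CharTheory CfsgLib.BrauerOrder CfsgLib.Blocks CfsgLib.Blocks.AbelianFree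
open scoped ComplexConjugate

universe u v

/-- The equations of the semidihedral case scaled by the degree `n`. -/
theorem sd_scaled {Q : ℤ} (hQ : Q ≠ 0) (hQ1 : Q + 1 ≠ 0) (hQm : Q - 1 ≠ 0) (hQodd : Odd Q) {N i : ℕ}
    (hN : Odd N) (hi : i ≠ 0) {n B C : ℤ} (hn : n ≠ 0) (hA : n - B ≠ 0) (hB : B ≠ 0) (hC : C ≠ 0)
    (hY : -n - C ≠ 0) (hF : B - n - C ≠ 0) {κ : ℚ}
    (hκ : κ * N = (i : ℚ) ^ 2 * (Q : ℚ) ^ 2 * ((Q : ℚ) + 1) ^ 2)
    (h1 : -1 / (n : ℚ) + ((Q : ℚ) + 1) ^ 2 / ((n : ℚ) - B) + (Q : ℚ) ^ 2 / B = κ * (-1 - 1 / (Q : ℚ)))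
    (h2 : 1 / (n : ℚ) + ((Q : ℚ) - 1) ^ 2 / (-(n : ℚ) - C) + (Q : ℚ) ^ 2 / C = κ * (1 - 1 / (Q : ℚ)))
    (h3 : ((Q : ℚ) + 1) ^ 2 / ((n : ℚ) - B) + (Q : ℚ) ^ 2 / C + 1 / ((B : ℚ) - n - C) =
      κ * (-1 - 1 / (Q : ℚ))) :
    C * (n * Q ^ 2 - B) = n * Q ^ 2 * (B - n) ∧
      (N : ℤ) * (B + n * Q) ^ 2 = n * (i : ℤ) ^ 2 * (Q * (Q + 1) ^ 3 * B * (B - n)) := by
  have mQ : (Q : ℚ) ≠ 0 := by exact_mod_cast hQ
  have mQ1 : (Q : ℚ) + 1 ≠ 0 := by exact_mod_cast hQ1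
  have mQm : (Q : ℚ) - 1 ≠ 0 := by exact_mod_cast hQm
  have mn : (n : ℚ) ≠ 0 := by exact_mod_cast hn
  have mA : (n : ℚ) - B ≠ 0 := by exact_mod_cast hA
  have mB : (B : ℚ) ≠ 0 := by exact_mod_cast hB
  have mC : (C : ℚ) ≠ 0 := by exact_mod_cast hC
  have mY : -(n : ℚ) - C ≠ 0 := by exact_mod_cast hY
  have mF : (B : ℚ) - n - C ≠ 0 := by exact_mod_cast hF
  have mN : (N : ℚ) ≠ 0 := Nat.cast_ne_zero.2 hN.pos.ne'
  have mi : (i : ℚ) ≠ 0 := Nat.cast_ne_zero.2 hi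
  -- the product of the first equation
  have p1 : (n : ℤ) * (i : ℤ) ^ 2 * (Q * (Q + 1) ^ 3 * B * (B - n)) = (N : ℤ) * (B + n * Q) ^ 2 := by
    apply Int.cast_injective (α := ℚ)
    push_cast
    have e : ((B : ℚ) + n * Q) ^ 2 * Q = -(κ * (Q + 1) * n * (n - B) * B) := by
      field_simp at h1
      linear_combination h1
    refine mul_right_cancel₀ mQ ?_
    linear_combination (-(N : ℚ)) * e - (n : ℚ) * ((Q : ℚ) + 1) * B * (B - n) * hκ
  refine ⟨?_, p1.symm⟩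
  apply Int.cast_injective (α := ℚ)
  push_cast
  have h := h1.trans h3.symm
  field_simp at h
  have hprod : (((C : ℚ) - B) * (C * (n * Q ^ 2 - B) - n * Q ^ 2 * (B - n))) * (n - B) = 0 := by
    linear_combination -h
  rcases mul_eq_zero.1 ((mul_eq_zero.1 hprod).resolve_right mA) with h0 | h0
  swap
  · linear_combination h0
  -- the two degrees differ
  exfalso
  have hBC : (C : ℚ) = B := sub_eq_zero.1 h0
  rw [hBC] at h2 mY
  field_simp at h1 h2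
  have e1 : ((B : ℚ) + n * Q) ^ 2 * Q = -(κ * (Q + 1) * n * (n - B) * B) := by linear_combination h1
  have e2 : ((B : ℚ) + n * Q) ^ 2 * Q = κ * (Q - 1) * n * (n + B) * B := by linear_combination -h2
  have hκ0 : κ ≠ 0 := fun e => by
    rw [e, zero_mul] at hκ
    exact mul_ne_zero (mul_ne_zero (pow_ne_zero 2 mi) (pow_ne_zero 2 mQ)) (pow_ne_zero 2 mQ1) hκ.symm
  have e3 : 2 * κ * n * B * ((n : ℚ) * Q - B) = 0 := by linear_combination e1 - e2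
  have hBQ : B = n * Q := by
    have := (mul_eq_zero.1 e3).resolve_left (mul_ne_zero (mul_ne_zero (mul_ne_zero two_ne_zero hκ0) mn) mB)
    have h' : ((B : ℤ) : ℚ) = ((n * Q : ℤ) : ℚ) := by push_cast; linear_combination -this
    exact_mod_cast h'
  rw [hBQ] at p1
  have p2 : (i : ℤ) ^ 2 * ((Q + 1) ^ 3 * (Q - 1) * n) = 4 * (N : ℤ) := by
    refine mul_left_cancel₀ (mul_ne_zero (mul_ne_zero hn hn) (mul_ne_zero hQ hQ)) ?_
    linear_combination p1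
  obtain ⟨t, ht⟩ : Odd (N : ℤ) := by exact_mod_cast hN
  obtain ⟨j, hj⟩ := hQodd
  rw [hj, ht] at p2
  obtain ⟨c, hc⟩ : (2 : ℤ) ∣ 2 * t + 1 := ⟨2 * ((i : ℤ) ^ 2 * ((j + 1) ^ 3 * j * n)), by linarith⟩
  omega

variable {G : Type u} [Group G] [Fintype G] {z : G} [Fintype (Cz z)] {Ω : Type v} [MulAction (Cz z) Ω]
  {D : Sys G z}

/-- The data of a semidihedral twisted system. -/
structure SDData (D : Sys G z) (x : Fin 6 → G → ℂ) (N i : ℕ) (n B C : ℤ) (s : ℤ) : Prop where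
  d0 : x 0 1 = (n : ℂ)
  d1 : x 1 1 = ((n - B : ℤ) : ℂ)
  d2 : x 2 1 = (B : ℂ)
  d3 : x 3 1 = (C : ℂ)
  d4 : x 4 1 = ((-n - C : ℤ) : ℂ)
  d5 : x 5 1 = ((B - n - C : ℤ) : ℂ)
  v0 : x 0 z = 1
  v1 : x 1 z = -((D.Q : ℂ) + 1)
  v2 : x 2 z = -(D.Q : ℂ)
  v3 : x 3 z = -(D.Q : ℂ)
  v4 : x 4 z = (s : ℂ) * ((D.Q : ℂ) - 1)
  v5 : x 5 z = -1
  hn : n ≠ 0
  hA : n - B ≠ 0
  hB : B ≠ 0
  hC : C ≠ 0
  hY : -n - C ≠ 0
  hF : B - n - C ≠ 0
  eqC : C * (n * D.Q ^ 2 - B) = n * D.Q ^ 2 * (B - n)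
  eqN : (N : ℤ) * (B + n * D.Q) ^ 2 = n * (i : ℤ) ^ 2 * (D.Q * (D.Q + 1) ^ 3 * B * (B - n))

variable [Finite Ω] (hD : D.Spec Ω) {θ : Cz z →* ℂˣ} {k : ℕ} {x : Fin 6 → G → ℂ}
include hD

theorem Q_odd : Odd D.Q := by
  have hq : Odd (D.core.q : ℤ) := by
    have hex : 2 ^ padicValNat 2 (D.core.q ^ 2 - 1) * Nat.card D.core.Z = Nat.card (D.core.S : Subgroup (Cz z)) := by
      obtain ⟨b, x, h, hr⟩ := hD.rot
      exact hr.exact
    rcases Nat.even_or_odd D.core.q with he | ho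
    · exfalso
      have h0 : padicValNat 2 (D.core.q ^ 2 - 1) = 0 := by
        refine padicValNat.eq_zero_of_not_dvd ?_
        obtain ⟨t, ht⟩ := he
        have h3 := hD.core.qlb
        have hsq : D.core.q ^ 2 = 2 * (2 * t * t) := by rw [ht]; ring
        have hpos : 0 < D.core.q ^ 2 := pow_pos (by omega) 2
        rintro ⟨c, hc⟩
        rw [hsq] at hc hpos
        generalize 2 * t * t = a at hc hpos
        omega
      rw [h0, pow_zero, one_mul] at hex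
      have hle : (D.core.Z : Subgroup (Cz z)) ≤ (D.core.S : Subgroup (Cz z)) :=
        (hD.core.zle true).trans (hD.core.tle true)
      have heq := Subgroup.eq_of_le_of_card_ge hle hex.ge
      exact hD.wZ (heq ▸ hD.core.tle true hD.wT)
    · exact_mod_cast ho
  rcases hD.core.sgn true with e | e <;> rw [Sys.Q, e]
  · simpa using hq
  · simpa using hq.neg

/-- **The semidihedral data.** -/
theorem sd_data [IsSimpleGroup G] (h2 : Nat.card D.core.Z = 2) (hθ : IsField θ k) (hx : SixT D Ω θ x)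
    (hN : Odd (Subgroup.centralizer ({z} : Set G)).index) {i : ℕ}
    (hidx : Nat.card (Cz z) =
      Nat.card (Subgroup.centralizer ({(D.w : G), z} : Set G)) * i * (D.Q * (D.Q + 1)).natAbs) :
    ∃ n B C s : ℤ, (s = 1 ∨ s = -1) ∧ (D.θ ⟨D.zc, hD.core.zle false hD.zcZ⟩ : ℂ) = (s : ℂ) ∧
      SDData D x (Subgroup.centralizer ({z} : Set G)).index i n B C s := by
  have hgen := hgen_all hD
  obtain ⟨⟨s, hs, hsθ, h4v⟩, hcase⟩ := values hD hθ hgen hx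
  rcases hcase with ⟨-, hδ, a0, a1, a2, a3, a5⟩ | ⟨h4, -⟩
  swap
  · omega
  obtain ⟨q1, q2, q3⟩ := class_equationsT hD hθ hgen hx
  obtain ⟨n, B, C, k0, k1, k2, k3, k4, k5, hn, hA, hB, hC, hY, hF⟩ := sixT_degrees hD hx
  obtain ⟨hQ, hQ1, hQm⟩ := Q_facts hD
  have hs2 : (s : ℂ) * s = 1 := by rcases hs with rfl | rfl <;> norm_num
  rw [hδ, k0, k1, k2, a0, a1, a2, kappa_cast hD] at q1
  rw [k0, a0, h4v, k4, a3, k3, kappa_cast hD] at q2
  rw [hδ, k1, k3, k5, a1, a3, a5, kappa_cast hD] at q3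
  set K : ℚ := (Nat.card (Cz z) : ℚ) ^ 3 /
    ((Nat.card G : ℚ) * (Nat.card (Subgroup.centralizer ({(D.w : G), z} : Set G)) : ℚ) ^ 2) with hK
  set N := (Subgroup.centralizer ({z} : Set G)).index with hNdef
  have hi : i ≠ 0 := fun e => by rw [e, mul_zero, zero_mul] at hidx; exact Nat.card_pos.ne' hidx
  have hu : (Nat.card (Subgroup.centralizer ({(D.w : G), z} : Set G)) : ℚ) ≠ 0 :=
    Nat.cast_ne_zero.2 Nat.card_pos.ne'
  have hc : (Nat.card (Cz z) : ℚ) ≠ 0 := Nat.cast_ne_zero.2 Nat.card_pos.ne'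
  have hNq : (N : ℚ) ≠ 0 := Nat.cast_ne_zero.2 hN.pos.ne'
  have hκ : K * N = (i : ℚ) ^ 2 * (D.Q : ℚ) ^ 2 * ((D.Q : ℚ) + 1) ^ 2 := by
    have hG : (Nat.card G : ℚ) = (N : ℚ) * (Nat.card (Cz z) : ℚ) := by
      rw [hNdef]
      exact_mod_cast (Subgroup.index_mul_card (Subgroup.centralizer ({z} : Set G))).symm
    have hc2 : (Nat.card (Cz z) : ℚ) = (Nat.card (Subgroup.centralizer ({(D.w : G), z} : Set G)) : ℚ) * (i : ℚ) *
        |(D.Q : ℚ) * ((D.Q : ℚ) + 1)| := by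
      have h := congrArg (fun m : ℕ => (m : ℚ)) hidx
      simp only [Nat.cast_mul, Nat.cast_natAbs, Int.cast_abs, Int.cast_mul, Int.cast_add, Int.cast_one] at h
      exact h
    rw [hK, hG]
    field_simp
    rw [hc2]
    linear_combination ((Nat.card (Subgroup.centralizer ({(D.w : G), z} : Set G)) : ℚ) ^ 2 * (i : ℚ) ^ 2) *
      sq_abs ((D.Q : ℚ) * ((D.Q : ℚ) + 1))
  obtain ⟨r1, r2⟩ := sd_scaled (Q := D.Q) (κ := K) (by exact_mod_cast hQ) (by exact_mod_cast hQ1)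
    (by exact_mod_cast hQm) (Q_odd hD) hN hi hn hA hB hC hY hF hκ
    (by apply Rat.cast_injective (α := ℂ); push_cast at q1 ⊢; linear_combination q1)
    (by apply Rat.cast_injective (α := ℂ); push_cast at q2 ⊢; linear_combination q2 - (((D.Q : ℂ) - 1) ^ 2 /
      (-(n : ℂ) - C)) * hs2)
    (by apply Rat.cast_injective (α := ℂ); push_cast at q3 ⊢; linear_combination q3)
  exact ⟨n, B, C, s, hs, hsθ, k0, k1, k2, k3, k4, k5, a0, a1, a2, a3, h4v, a5, hn, hA, hB, hC, hY, hF, r1, r2⟩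

end CfsgLib.BrauerTwist
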