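import Cfsg.Agent.Lib.BrauerOrder.Isom

/-!
# Generalized characters of norm three

Three functions of norm three vanishing at `1` with products `1`, `1`, `-1` have six constituents.

Blueprint: `blueprint/RankTwo_P9.md`.
-/

set_option autoImplicit false
set_option linter.unusedSectionVars false

namespace CfsgLib.BrauerTwist

open Cfsg CfsgLib.CharTheory CfsgLib.BrauerOrder
open scoped ComplexConjugate

universe u

variable {G : Type u} [Group G] [Fintype G]

/-- A generalized character of norm three is the sum of three signed irreducible characters. -/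
theorem exists_three {φ : G → ℂ} (hφ : IsGeneralizedCharacter G φ) (hn : classInner φ φ = 3) :
    ∃ a b c : G → ℂ, IsSignedIrr a ∧ IsSignedIrr b ∧ IsSignedIrr c ∧ classInner a b = 0 ∧
      classInner a c = 0 ∧ classInner b c = 0 ∧ φ = a + b + c := by
  obtain ⟨k, hθ, hk, hsq⟩ := classInner_self_eq_sum_sq hφ
  rw [hn] at hsq
  have hs : ∑ ψ : IrrCharacter G, k ψ ^ 2 = 3 := by exact_mod_cast hsq.symm
  obtain ⟨i, hi⟩ : ∃ i, k i ≠ 0 := by
    by_contra hall
    push Not at hall
    simp [hall] at hs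
  have hle : k i ^ 2 ≤ 3 := hs ▸ Finset.single_le_sum (fun ψ _ => sq_nonneg (k ψ)) (Finset.mem_univ i)
  have h1 : k i = 1 ∨ k i = -1 := by
    have : -2 < k i ∧ k i < 2 := ⟨by nlinarith, by nlinarith⟩
    omega
  set a : G → ℂ := (k i : ℂ) • (i : G → ℂ) with ha
  have hsa : IsSignedIrr a := by
    rcases h1 with e | e
    · exact Or.inl (by rw [ha, e, Int.cast_one, one_smul]; exact i.2)
    · exact Or.inr (by rw [ha, e, Int.cast_neg, Int.cast_one, neg_smul, one_smul, neg_neg]; exact i.2)
  have hsq' : (k i : ℂ) * (k i : ℂ) = 1 := by rcases h1 with e | e <;> rw [e] <;> norm_num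
  have hia : classInner φ a = 1 := by rw [ha, classInner_smul_right, hk i, map_intCast, hsq']
  have hai : classInner a φ = 1 := by rw [← classInner_comm, hia, map_one]
  have haa := classInner_self_signed hsa
  obtain ⟨b, c, hb, hc, hbc, e⟩ := exists_two (isGenChar_sub hφ (signed_gen hsa)) (by
    rw [classInner_sub_left, classInner_sub_right, classInner_sub_right, hn, hia, hai, haa]; norm_num)
  have hz : classInner (b + c) a = 0 := by
    rw [← e, classInner_sub_left, hia, haa, sub_self]
  have hba : classInner b a = 0 := orth_of_sum hb hsa hbc hz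
  have hca : classInner c a = 0 := by rwa [classInner_add_left, hba, zero_add] at hz
  refine ⟨a, b, c, hsa, hb, hc, ?_, ?_, hbc, ?_⟩
  · rw [← classInner_comm, hba, map_zero]
  · rw [← classInner_comm, hca, map_zero]
  · rw [add_assoc, ← e, add_sub_cancel]

/-- A function of norm three vanishing at `1` meets a sum of three orthogonal signed irreducible characters
vanishing at `1` with product `ε` in one of them only. -/
theorem share_raw {a b c Q : G → ℂ} (ha : IsSignedIrr a) (hb : IsSignedIrr b) (hc : IsSignedIrr c)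
    (hab : classInner a b = 0) (hac : classInner a c = 0) (hbc : classInner b c = 0)
    (h1 : a 1 + b 1 + c 1 = 0) (hQ : IsGeneralizedCharacter G Q) (hn : classInner Q Q = 3) (hQ1 : Q 1 = 0)
    {ε : ℤ} (hε : ε = 1 ∨ ε = -1) (he : classInner Q (a + b + c) = (ε : ℂ)) :
    (classInner Q a = (ε : ℂ) ∧ classInner Q b = 0 ∧ classInner Q c = 0) ∨
    (classInner Q a = 0 ∧ classInner Q b = (ε : ℂ) ∧ classInner Q c = 0) ∨
    (classInner Q a = 0 ∧ classInner Q b = 0 ∧ classInner Q c = (ε : ℂ)) := by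
  obtain ⟨α, hα⟩ := coeff_int hQ ha
  obtain ⟨β, hβ⟩ := coeff_int hQ hb
  obtain ⟨γ, hγ⟩ := coeff_int hQ hc
  have hsum : α + β + γ = ε := by
    rw [classInner_add_right, classInner_add_right, hα, hβ, hγ] at he
    exact_mod_cast he
  set W := Q - (α : ℂ) • a - (β : ℂ) • b - (γ : ℂ) • c with hW
  obtain ⟨n, hn', hn0⟩ := norm_int (φ := W) (isGenChar_sub (isGenChar_sub (isGenChar_sub hQ
    (isGenChar_intSmul α (signed_gen ha))) (isGenChar_intSmul β (signed_gen hb)))
    (isGenChar_intSmul γ (signed_gen hc)))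
  have sw : ∀ {x y : G → ℂ} {k : ℂ}, classInner x y = k → classInner y x = conj k := fun {x y k} h => by
    rw [← classInner_comm, h]
  have hn2 : (3 : ℤ) - α ^ 2 - β ^ 2 - γ ^ 2 = (n : ℤ) := by
    simp only [hW, classInner_sub_left, classInner_sub_right, classInner_smul_left, classInner_smul_right,
      hn, hα, hβ, hγ, sw hα, sw hβ, sw hγ, classInner_self_signed ha, classInner_self_signed hb,
      classInner_self_signed hc, hab, hac, hbc, sw hab, sw hac, sw hbc, map_intCast, map_zero] at hn'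
    have h : (((3 : ℤ) - α ^ 2 - β ^ 2 - γ ^ 2 : ℤ) : ℂ) = ((n : ℤ) : ℂ) := by
      push_cast; linear_combination hn'
    exact_mod_cast h
  obtain ⟨A, hA0, hA⟩ := signed_degree ha
  obtain ⟨B, hB0, hB⟩ := signed_degree hb
  obtain ⟨C, hC0, hC⟩ := signed_degree hc
  have hABC : A + B + C = 0 := by rw [hA, hB, hC] at h1; exact_mod_cast h1
  have hfull : n = 0 → α * A + β * B + γ * C = 0 := fun h => by
    have h' := congrFun (hn0 h) 1
    simp only [hW, Pi.sub_apply, Pi.smul_apply, smul_eq_mul, Pi.zero_apply, hQ1, hA, hB, hC] at h'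
    have h'' : (0 : ℤ) - α * A - β * B - γ * C = 0 := by exact_mod_cast h'
    omega
  have hαb : -1 ≤ α ∧ α ≤ 1 := by constructor <;> nlinarith [sq_nonneg β, sq_nonneg γ]
  have hβb : -1 ≤ β ∧ β ≤ 1 := by constructor <;> nlinarith [sq_nonneg α, sq_nonneg γ]
  have hγb : -1 ≤ γ ∧ γ ≤ 1 := by constructor <;> nlinarith [sq_nonneg β, sq_nonneg α]
  rw [hα, hβ, hγ]
  have key : (α = ε ∧ β = 0 ∧ γ = 0) ∨ (α = 0 ∧ β = ε ∧ γ = 0) ∨ (α = 0 ∧ β = 0 ∧ γ = ε) := by
    obtain ⟨a1, a2⟩ := hαb
    obtain ⟨b1, b2⟩ := hβb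
    obtain ⟨c1, c2⟩ := hγb
    interval_cases α <;> interval_cases β <;> interval_cases γ <;> omega
  rcases key with ⟨e1, e2, e3⟩ | ⟨e1, e2, e3⟩ | ⟨e1, e2, e3⟩ <;> simp [e1, e2, e3]

end CfsgLib.BrauerTwist
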