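import Cfsg.Agent.Lib.BrauerTwist.Basic
import Cfsg.Agent.Lib.BrauerTwist.Three
import Cfsg.Agent.Lib.BrauerOrder.Main

/-!
# The six characters of the twisted system

`SixT θ x`: the twisted induced functions of `th1`, `th1'`, `th2` in terms of six orthonormal signed
irreducible characters.

Blueprint: `blueprint/RankTwo_P9.md`.
-/

set_option autoImplicit false
set_option linter.unusedSectionVars false
set_option linter.style.haveILetI false

namespace CfsgLib.BrauerTwist

open Cfsg CfsgLib.CharTheory CfsgLib.BrauerOrder CfsgLib.Blocks CfsgLib.Blocks.AbelianFree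
open scoped ComplexConjugate

universe u v

variable {G : Type u} [Group G] [Fintype G] {z : G} [Fintype (Cz z)] {Ω : Type v} [MulAction (Cz z) Ω]

/-- The six characters. -/
structure SixT (D : Sys G z) (Ω : Type v) [MulAction (Cz z) Ω] (θ : Cz z →* ℂˣ) (x : Fin 6 → G → ℂ) : Prop where
  orth : Orth6 x
  th1 : upT θ (D.th1 Ω) = -x 0 + x 1 + x 2
  th1' : upT θ (D.th1' Ω) = x 1 + x 3 + x 5
  th2 : upT θ (D.th2 Ω) = -(x 0 + x 4 + x 3)

theorem SixT.of_six {D : Sys G z} {M : Ideal AlgInt} {e : Fin 6 → G → ℂ} (he : D.Six Ω M e) :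
    SixT D Ω 1 e :=
  ⟨he.orth6, by rw [upT_one_eq, he.th1], by rw [upT_one_eq, he.th1'], by rw [upT_one_eq, he.th2]⟩

theorem signed_neg {a : G → ℂ} (ha : IsSignedIrr a) : IsSignedIrr (-a) := by
  rcases ha with h | h
  · exact Or.inr (by rwa [neg_neg])
  · exact Or.inl h

variable {D : Sys G z} (hD : D.Spec Ω) {θ : Cz z →* ℂˣ}
include hD

theorem exists_sixT (hgen : ∀ (b : Bool) (τ : ↥(D.core.T b) →* ℂˣ), IsGeneralizedCharacter (Cz z) (D.core.R Ω b τ)) :
    ∃ x : Fin 6 → G → ℂ, SixT D Ω θ x := by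
  classical
  obtain ⟨g1, g1', g2⟩ := gen_th hD hgen
  obtain ⟨s1, s1', s2⟩ := supp_th hD
  obtain ⟨c1, c1', c2⟩ := classFun_th hD
  obtain ⟨n11, n22, n33, n12, n13, n23, -, -, -⟩ := inner_th hD
  set P := upT θ (D.th1 Ω) with hPdef
  set P' := upT θ (D.th1' Ω) with hP'def
  set R := upT θ (D.th2 Ω) with hRdef
  have hP' : IsGeneralizedCharacter G P' := upT_gen θ g1'
  have hR : IsGeneralizedCharacter G R := upT_gen θ g2
  have PP : classInner P P = 3 := (inner_upT hD θ s1 s1 c1).trans n11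
  have P'P' : classInner P' P' = 3 := (inner_upT hD θ s1' s1' c1').trans n22
  have RR : classInner R R = 3 := (inner_upT hD θ s2 s2 c2).trans n33
  have PP' : classInner P P' = 1 := (inner_upT hD θ s1 s1' c1').trans n12
  have PR : classInner P R = 1 := (inner_upT hD θ s1 s2 c2).trans n13
  have P'R : classInner P' R = -1 := (inner_upT hD θ s1' s2 c2).trans n23
  have sw : ∀ {x y : G → ℂ} {k : ℂ}, classInner x y = k → classInner y x = conj k := fun {x y k} h => by
    rw [← classInner_comm, h]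
  have hP1 : P 1 = 0 := upT_one hD θ s1
  have hP'1 : P' 1 = 0 := upT_one hD θ s1'
  have hR1 : R 1 = 0 := upT_one hD θ s2
  obtain ⟨a₀, b₀, c₀, sa, sb, sc, oab, oac, obc, eP₀⟩ :=
    exists_three (upT_gen θ g1) PP
  have h1₀ : a₀ 1 + b₀ 1 + c₀ 1 = 0 := by
    have := congrFun eP₀ 1
    simp only [Pi.add_apply] at this
    rw [← this]; exact hP1
  -- the constituent met by the second function
  obtain ⟨a, b', c', sA, sB, sC, AB, AC, BC, eP, PA, PB, PC⟩ : ∃ a b c : G → ℂ, IsSignedIrr a ∧ IsSignedIrr b ∧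
      IsSignedIrr c ∧ classInner a b = 0 ∧ classInner a c = 0 ∧ classInner b c = 0 ∧ P = a + b + c ∧
      classInner P' a = 1 ∧ classInner P' b = 0 ∧ classInner P' c = 0 := by
    rcases share_raw sa sb sc oab oac obc h1₀ hP' P'P' hP'1 (ε := 1) (Or.inl rfl)
      (by rw [← eP₀, sw PP']; simp) with ⟨h1, h2, h3⟩ | ⟨h1, h2, h3⟩ | ⟨h1, h2, h3⟩
    · exact ⟨a₀, b₀, c₀, sa, sb, sc, oab, oac, obc, eP₀, by simpa using h1, h2, h3⟩
    · exact ⟨b₀, a₀, c₀, sb, sa, sc, by rw [sw oab, map_zero], obc, oac, by rw [hPdef, eP₀]; abel,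
        by simpa using h2, h1, h3⟩
    · exact ⟨c₀, a₀, b₀, sc, sa, sb, by rw [sw oac, map_zero], by rw [sw obc, map_zero], oab,
        by rw [hPdef, eP₀]; abel, by simpa using h3, h1, h2⟩
  have AA := classInner_self_signed sA
  obtain ⟨d', e', sD, sE, DE, eDE⟩ : ∃ d e : G → ℂ, IsSignedIrr d ∧ IsSignedIrr e ∧ classInner d e = 0 ∧
      P' - a = d + e := exists_two (isGenChar_sub hP' (signed_gen sA)) (by
    rw [classInner_sub_left, classInner_sub_right, classInner_sub_right, P'P', PA, AA, sw PA, map_one]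
    norm_num)
  have orth2 : ∀ {y : G → ℂ}, IsSignedIrr y → classInner (P' - a) y = 0 →
      classInner d' y = 0 ∧ classInner e' y = 0 := fun {y} hy h => by
    rw [eDE] at h
    have h' := orth_of_sum sD hy DE h
    rw [classInner_add_left, h', zero_add] at h
    exact ⟨h', h⟩
  obtain ⟨DA, EA⟩ := orth2 sA (by rw [classInner_sub_left, PA, AA, sub_self])
  obtain ⟨DB, EB⟩ := orth2 sB (by rw [classInner_sub_left, PB, AB, sub_self])
  obtain ⟨DC, EC⟩ := orth2 sC (by rw [classInner_sub_left, PC, AC, sub_self])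
  have eP' : P' = a + d' + e' := by rw [add_assoc, ← eDE]; abel
  have h1 : a 1 + b' 1 + c' 1 = 0 := by
    have := congrFun eP 1
    simp only [Pi.add_apply] at this
    rw [← this]; exact hP1
  have h1' : a 1 + d' 1 + e' 1 = 0 := by
    have := congrFun eP' 1
    simp only [Pi.add_apply] at this
    rw [← this]; exact hP'1
  have m1 := share_raw sA sB sC AB AC BC h1 hR RR hR1 (ε := 1) (Or.inl rfl) (by rw [← eP, sw PR]; simp)
  have m2 := share_raw sA sD sE (by rw [sw DA, map_zero]) (by rw [sw EA, map_zero]) DE h1' hR RR hR1 (ε := -1)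
    (Or.inr rfl) (by rw [← eP', sw P'R]; simp)
  simp only [Int.cast_one, Int.cast_neg] at m1 m2
  have RA : classInner R a = 0 := by
    rcases m1 with ⟨h, -, -⟩ | ⟨h, -, -⟩ | ⟨h, -, -⟩
    · rcases m2 with ⟨h', -, -⟩ | ⟨h', -, -⟩ | ⟨h', -, -⟩ <;> rw [h] at h' <;> norm_num at h'
    · exact h
    · exact h
  obtain ⟨b, c, sB, sC, AB, AC, BC, eP, DB, EB, DC, EC, RB, RC⟩ : ∃ b c : G → ℂ, IsSignedIrr b ∧ IsSignedIrr c ∧
      classInner a b = 0 ∧ classInner a c = 0 ∧ classInner b c = 0 ∧ P = a + b + c ∧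
      classInner d' b = 0 ∧ classInner e' b = 0 ∧ classInner d' c = 0 ∧ classInner e' c = 0 ∧
      classInner R b = 0 ∧ classInner R c = 1 := by
    rcases m1 with ⟨h, -, -⟩ | ⟨-, h2, h3⟩ | ⟨-, h2, h3⟩
    · rw [RA] at h; norm_num at h
    · exact ⟨c', b', sC, sB, AC, AB, by rw [sw BC, map_zero], by rw [eP]; abel, DC, EC, DB, EB, h3, h2⟩
    · exact ⟨b', c', sB, sC, AB, AC, BC, eP, DB, EB, DC, EC, h2, h3⟩
  obtain ⟨d, e, sD, sE, DE, eP', DA, EA, DB, EB, DC, EC, RD, RE⟩ : ∃ d e : G → ℂ, IsSignedIrr d ∧ IsSignedIrr e ∧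
      classInner d e = 0 ∧ P' = a + d + e ∧ classInner d a = 0 ∧ classInner e a = 0 ∧
      classInner d b = 0 ∧ classInner e b = 0 ∧ classInner d c = 0 ∧ classInner e c = 0 ∧
      classInner R d = -1 ∧ classInner R e = 0 := by
    rcases m2 with ⟨h, -, -⟩ | ⟨-, h2, h3⟩ | ⟨-, h2, h3⟩
    · rw [RA] at h; norm_num at h
    · exact ⟨d', e', sD, sE, DE, eP', DA, EA, DB, EB, DC, EC, h2, h3⟩
    · exact ⟨e', d', sE, sD, by rw [sw DE, map_zero], by rw [eP']; abel, EA, DA, EB, DB, EC, DC, h3, h2⟩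
  have BB := classInner_self_signed sB
  have CC := classInner_self_signed sC
  have DD := classInner_self_signed sD
  have EE := classInner_self_signed sE
  set f := R - c + d with hf
  have sF : IsSignedIrr f := irr_or_neg_of_norm_one
    (isGenChar_add (isGenChar_sub hR (signed_gen sC)) (signed_gen sD)) (by
      simp only [hf, classInner_add_left, classInner_add_right, classInner_sub_left, classInner_sub_right, RR,
        RC, RD, sw RC, sw RD, CC, DD, DC, sw DC, map_one, map_neg, map_zero]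
      norm_num)
  have FA : classInner f a = 0 := by
    rw [hf, classInner_add_left, classInner_sub_left, RA, DA, sw AC, map_zero, sub_zero, add_zero]
  have FB : classInner f b = 0 := by
    rw [hf, classInner_add_left, classInner_sub_left, RB, DB, sw BC, map_zero, sub_zero, add_zero]
  have FC : classInner f c = 0 := by
    rw [hf, classInner_add_left, classInner_sub_left, RC, DC, CC]; ring
  have FD : classInner f d = 0 := by
    rw [hf, classInner_add_left, classInner_sub_left, RD, DD, sw DC, map_zero]; ring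
  have FE : classInner f e = 0 := by
    rw [hf, classInner_add_left, classInner_sub_left, RE, DE, sw EC, map_zero]; ring
  refine ⟨![-c, a, b, d, -f, e], ⟨fun i => ?_, fun i j => ?_⟩, ?_, ?_, ?_⟩
  · fin_cases i <;> simp <;>
      first | exact signed_neg sC | exact signed_neg sF | assumption
  · fin_cases i <;> fin_cases j <;>
      simp [classInner_neg_left, classInner_neg_right, AA, BB, CC, DD, EE, classInner_self_signed sF, AB, sw AB,
        AC, sw AC, BC, sw BC, DA, sw DA, EA, sw EA, DB, sw DB, EB, sw EB, DC, sw DC, EC, sw EC, DE, sw DE,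
        FA, sw FA, FB, sw FB, FC, sw FC, FD, sw FD, FE, sw FE]
  · show P = _
    rw [eP]
    funext g
    simp
    ring
  · show P' = _
    rw [eP']
    rfl
  · show R = _
    funext g
    simp [hf]
    ring

/-- The signed degrees of the six characters. -/
theorem sixT_degrees {x : Fin 6 → G → ℂ} (hx : SixT D Ω θ x) :
    ∃ n B C : ℤ, x 0 1 = (n : ℂ) ∧ x 1 1 = ((n - B : ℤ) : ℂ) ∧ x 2 1 = (B : ℂ) ∧ x 3 1 = (C : ℂ) ∧
      x 4 1 = ((-n - C : ℤ) : ℂ) ∧ x 5 1 = ((B - n - C : ℤ) : ℂ) ∧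
      n ≠ 0 ∧ n - B ≠ 0 ∧ B ≠ 0 ∧ C ≠ 0 ∧ -n - C ≠ 0 ∧ B - n - C ≠ 0 := by
  obtain ⟨s1, s1', s2⟩ := supp_th hD
  obtain ⟨n, hn0, hn⟩ := signed_degree (hx.orth.signed 0)
  obtain ⟨A, hA0, hA⟩ := signed_degree (hx.orth.signed 1)
  obtain ⟨B, hB0, hB⟩ := signed_degree (hx.orth.signed 2)
  obtain ⟨C, hC0, hC⟩ := signed_degree (hx.orth.signed 3)
  obtain ⟨Y, hY0, hY⟩ := signed_degree (hx.orth.signed 4)
  obtain ⟨F, hF0, hF⟩ := signed_degree (hx.orth.signed 5)
  have k1 : upT θ (D.th1 Ω) 1 = 0 := upT_one hD θ s1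
  have k2 : upT θ (D.th1' Ω) 1 = 0 := upT_one hD θ s1'
  have k3 : upT θ (D.th2 Ω) 1 = 0 := upT_one hD θ s2
  rw [hx.th1] at k1
  rw [hx.th1'] at k2
  rw [hx.th2] at k3
  simp only [Pi.add_apply, Pi.neg_apply, hn, hA, hB, hC, hY, hF] at k1 k2 k3
  have i1 : -n + A + B = 0 := by exact_mod_cast k1
  have i2 : A + C + F = 0 := by exact_mod_cast k2
  have i3 : -(n + Y + C) = 0 := by exact_mod_cast k3
  obtain rfl : A = n - B := by omega
  obtain rfl : Y = -n - C := by omega
  obtain rfl : F = B - n - C := by omega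
  exact ⟨n, B, C, hn, hA, hB, hC, hY, hF, hn0, hA0, hB0, hC0, hY0, hF0⟩

end CfsgLib.BrauerTwist
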