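import Cfsg.Agent.Lib.BrauerTwist.Cyclic
import Cfsg.Agent.Lib.BrauerOrder.TorusProd

/-!
# The coordinates of the torus with the four-group in the twisted system

The characters of order two have one column; all others share one of three columns.

Blueprint: `blueprint/RankTwo_P9.md`.
-/

set_option autoImplicit false
set_option linter.unusedSectionVars false
set_option linter.style.haveILetI false
set_option linter.unusedTactic false
set_option linter.unreachableTactic false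

namespace CfsgLib.BrauerTwist

open Cfsg CfsgLib.CharTheory CfsgLib.BrauerOrder CfsgLib.Blocks
open scoped ComplexConjugate

universe u v

/-- The three possible columns of a generic character of the torus with the four-group. -/
def colK : Fin 3 → Fin 6 → ℤ :=
  ![![-1, 2, 0, 1, 0, 0], ![-1, 1, 1, 1, 0, 1], ![0, 2, 1, 0, 0, 1]]

/-- The column of the characters of order two. -/
def colO : Fin 6 → ℤ := ![-1, 2, 1, 1, 0, 1]

/-- The squared norm of a generic vector. -/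
def nrmG (a b c : ℤ) : ℤ :=
  a ^ 2 + b ^ 2 + (3 + a - b) ^ 2 + c ^ 2 + (a + c) ^ 2 + (3 - b - c) ^ 2

set_option maxHeartbeats 2000000 in
/-- The vectors of a generic character. -/
theorem opts_G {a b c w : ℤ} (hw : w = 1 ∨ w = 2) (h : nrmG a b c ≤ w + 6)
    (hs : nrmG a b c = w + 6 → a + c = 0) :
    (a = -1 ∧ b = 2 ∧ c = 1) ∨ (a = -1 ∧ b = 1 ∧ c = 1) ∨ (a = 0 ∧ b = 2 ∧ c = 0) ∨
      (w = 2 ∧ ((a = -1 ∧ b = 2 ∧ c = 0) ∨ (a = 0 ∧ b = 2 ∧ c = 1))) := by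
  simp only [nrmG] at h hs
  have q1 := sq_nonneg (3 + a - b)
  have q2 := sq_nonneg (a + c)
  have q3 := sq_nonneg (3 - b - c)
  have q4 := sq_nonneg a
  have q5 := sq_nonneg b
  have q6 := sq_nonneg c
  have hA : a ^ 2 ≤ 8 := by omega
  have hB : b ^ 2 ≤ 8 := by omega
  have hC : c ^ 2 ≤ 8 := by omega
  obtain ⟨a1, a2⟩ : -2 ≤ a ∧ a ≤ 2 := by constructor <;> nlinarith
  obtain ⟨b1, b2⟩ : -2 ≤ b ∧ b ≤ 2 := by constructor <;> nlinarith
  obtain ⟨c1, c2⟩ : -2 ≤ c ∧ c ≤ 2 := by constructor <;> nlinarith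
  rcases hw with rfl | rfl <;> interval_cases a <;> interval_cases b <;> interval_cases c <;>
    first
      | (norm_num at h; done)
      | (norm_num at hs; done)
      | norm_num

variable {G : Type u} [Group G] [Fintype G] {z : G} [Fintype (Cz z)] {Ω : Type v} [MulAction (Cz z) Ω]
  {D : Sys G z} (hD : D.Spec Ω) {θ : Cz z →* ℂˣ} {k : ℕ} {x : Fin 6 → G → ℂ}
  {r : ↥(D.core.T true) ≃* ↥(D.core.T true)} {g : G} (hr : D.Auto r g)
include hD hr

theorem inner_upT_ff {τ' τ : ↥(D.core.T true) →* ℂˣ} (h' : τ' ≠ 1) (h : τ ≠ 1) :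
    classInner (upT θ (fT Ω r τ')) (upT θ (fT Ω r τ)) = (((nW hD r τ' τ : ℤ) + 6 : ℤ) : ℂ) := by
  rw [inner_upT hD θ (supp_fT hD r τ') (supp_fT hD r τ) (fT_class hD τ), inner_ff hD hr h' h]
  push_cast
  ring

variable (hθ : IsField θ k)
  (hgen : ∀ (b : Bool) (τ : ↥(D.core.T b) →* ℂˣ), IsGeneralizedCharacter (Cz z) (D.core.R Ω b τ))
  (hx : SixT D Ω θ x)
include hθ hgen hx

open Classical in
theorem coord_eqsT {τ : ↥(D.core.T true) →* ℂˣ} (h : τ ≠ 1) :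
    ∃ c : Fin 6 → ℤ, (∀ i, classInner (upT θ (fT Ω r τ)) (x i) = (c i : ℂ)) ∧
      c 2 = (if IsO τ then 4 else 3) + c 0 - c 1 ∧ c 5 = (if IsO τ then 4 else 3) - c 1 - c 3 ∧
      c 4 = -c 0 - c 3 ∧
      c 0 ^ 2 + c 1 ^ 2 + c 2 ^ 2 + c 3 ^ 2 + c 4 ^ 2 + c 5 ^ 2 ≤ (nW hD r τ τ : ℤ) + 6 := by
  obtain ⟨c, hc⟩ := coords hx.orth (fT_genT hD hθ hgen hr τ)
  obtain ⟨s1, s1', s2⟩ := supp_th hD
  obtain ⟨f1, f1', f2⟩ := classFun_th hD
  obtain ⟨t1, t1', t2⟩ := inner_f_th hD hr h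
  have k1 := (inner_upT hD θ (supp_fT hD r τ) s1 f1).trans t1
  have k2 := (inner_upT hD θ (supp_fT hD r τ) s1' f1').trans t1'
  have k3 := (inner_upT hD θ (supp_fT hD r τ) s2 f2).trans t2
  rw [hx.th1, classInner_add_right, classInner_add_right, classInner_neg_right, hc, hc, hc] at k1
  rw [hx.th1', classInner_add_right, classInner_add_right, hc, hc, hc] at k2
  rw [hx.th2, classInner_neg_right, classInner_add_right, classInner_add_right, hc, hc, hc] at k3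
  have e1 : -c 0 + c 1 + c 2 = (if IsO τ then 4 else 3) := by
    apply Int.cast_injective (α := ℂ); push_cast; exact k1
  have e2 : c 1 + c 3 + c 5 = (if IsO τ then 4 else 3) := by
    apply Int.cast_injective (α := ℂ); push_cast; exact k2
  have e3 : -(c 0 + c 4 + c 3) = 0 := by
    apply Int.cast_injective (α := ℂ); push_cast; exact k3
  exact ⟨c, hc, by omega, by omega, by omega,
    (bessel_six hx.orth (fT_genT hD hθ hgen hr τ) hc (inner_upT_ff hD hr h h)).1⟩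

theorem coord_OT {τ : ↥(D.core.T true) →* ℂˣ} (h : IsO τ) :
    ∀ i, classInner (upT θ (fT Ω r τ)) (x i) = (colO i : ℂ) := by
  obtain ⟨c, hc, c2, c5, c4, hb⟩ := coord_eqsT hD hr hθ hgen hx h.1
  rw [if_pos h] at c2 c5
  rw [(nW_O hD hr h).2.2, c2, c4, c5] at hb
  push_cast at hb
  obtain ⟨a, ha⟩ : ∃ a, c 0 = a - 1 := ⟨c 0 + 1, by omega⟩
  obtain ⟨b, hb'⟩ : ∃ b, c 1 = b + 2 := ⟨c 1 - 2, by omega⟩
  obtain ⟨d, hd⟩ : ∃ d, c 3 = d + 1 := ⟨c 3 - 1, by omega⟩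
  rw [ha, hb', hd] at hb
  have hz : a ^ 2 + b ^ 2 + d ^ 2 + (a - b) ^ 2 + (a + d) ^ 2 + (b + d) ^ 2 ≤ 0 := by linarith
  have z1 : a = 0 := by nlinarith [sq_nonneg b, sq_nonneg d, sq_nonneg (a - b), sq_nonneg (a + d), sq_nonneg (b + d)]
  have z2 : b = 0 := by nlinarith [sq_nonneg a, sq_nonneg d, sq_nonneg (a - b), sq_nonneg (a + d), sq_nonneg (b + d)]
  have z3 : d = 0 := by nlinarith [sq_nonneg b, sq_nonneg a, sq_nonneg (a - b), sq_nonneg (a + d), sq_nonneg (b + d)]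
  intro i
  rw [hc]
  congr 1
  fin_cases i <;> simp [colO] <;> omega

/-- The vector of the cyclic torus with a single coordinate, orthogonal to the functions of this torus. -/
theorem exists_ET : ∃ E : G → ℂ, (∀ i, classInner E (x i) = ((![0, 0, 0, 0, 1, 0] : Fin 6 → ℤ) i : ℂ)) ∧
    ∀ τ : ↥(D.core.T true) →* ℂˣ, classInner (upT θ (fT Ω r τ)) E = 0 := by
  obtain ⟨φ, hφ1, hφl, hφo⟩ : ∃ φ : ↥(D.core.T false) →* ℂˣ, φ ≠ 1 ∧ φ ≠ D.lamT false ∧ ¬ Sys.ThOrbit hD φ := by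
    rcases hD.extra with hx' | ⟨μ, -, -, hμ, -, hμ1, -, hμl, -⟩
    · obtain ⟨ψ, a, b, c, -, -⟩ := hx' D.θ hD.thne
      exact ⟨ψ, (nonfixed_ne hD a).1, (nonfixed_ne hD a).2, not_or.2 ⟨b, c⟩⟩
    · exact ⟨μ, hμ1, hμl, orbit_ne hD hμ⟩
  refine ⟨Vt D Ω θ φ 1 - Vt D Ω θ D.θ 1, fun i => ?_, fun τ => ?_⟩
  · rw [classInner_sub_left, (coord_allT hD hgen hx hφ1).2.2 hφl hφo,
      (coord_allT hD hgen hx (th_ne hD).1).2.1 (th_ne hD).2 (Or.inl rfl), ← Int.cast_sub]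
    congr 1
    fin_cases i <;> simp
  · have hzero : ∀ ρ : ↥(D.core.T false) →* ℂˣ, classInner (upT θ (fT Ω r τ)) (Vt D Ω θ ρ 1) = 0 := fun ρ => by
      rw [Vt, inner_upT hD θ (supp_fT hD r τ) (supp_RN hD ρ 1)
        (isClassFunction_sub (R_isClassFunction hD.core _ _) (R_isClassFunction hD.core _ _)),
        inner_f_supp hD hr (supp_RN hD ρ 1)]
      simp only [gT, classInner_sub_left, classInner_sub_right, classInner_add_left, classInner_smul_left,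
        classInner_R_ne hD.core (show true ≠ false by decide)]
      simp
    rw [classInner_sub_right, hzero, hzero, sub_zero]

/-- The five vectors of a generic character. -/
theorem coord_optionsT {τ : ↥(D.core.T true) →* ℂˣ} (h : τ ≠ 1) (ho : ¬ IsO τ) :
    ∃ c : Fin 6 → ℤ, (∀ i, classInner (upT θ (fT Ω r τ)) (x i) = (c i : ℂ)) ∧
      (c = colK 0 ∨ c = colK 1 ∨ c = colK 2 ∨
        (nW hD r τ τ = 2 ∧ (c = ![-1, 2, 0, 0, 1, 1] ∨ c = ![0, 2, 1, 1, -1, 0]))) := by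
  obtain ⟨c, hc, c2, c5, c4, hb⟩ := coord_eqsT hD hr hθ hgen hx h
  rw [if_neg ho] at c2 c5
  obtain ⟨E, hE, hfE⟩ := exists_ET hD hr hθ hgen hx
  obtain ⟨-, hsat⟩ := bessel_six hx.orth (fT_genT hD hθ hgen hr τ) hc (inner_upT_ff hD hr h h)
  have hnorm : c 0 ^ 2 + c 1 ^ 2 + c 2 ^ 2 + c 3 ^ 2 + c 4 ^ 2 + c 5 ^ 2 = nrmG (c 0) (c 1) (c 3) := by
    rw [c2, c4, c5, nrmG]; ring
  have sat4 : nrmG (c 0) (c 1) (c 3) = (nW hD r τ τ : ℤ) + 6 → c 0 + c 3 = 0 := by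
    intro hs
    have h1 := hsat (hnorm.trans hs) hE
    rw [hfE τ] at h1
    simp only [Matrix.cons_val_zero, Matrix.cons_val_one, Matrix.cons_val] at h1
    have h2 : (0 : ℤ) = c 0 * 0 + c 1 * 0 + c 2 * 0 + c 3 * 0 + c 4 * 1 + c 5 * 0 := by exact_mod_cast h1
    omega
  have hw := nW_self hD hr h
  refine ⟨c, hc, ?_⟩
  have ext6 : ∀ v : Fin 6 → ℤ, c 0 = v 0 → c 1 = v 1 → c 2 = v 2 → c 3 = v 3 → c 4 = v 4 → c 5 = v 5 → c = v :=
    fun v a0 a1 a2 a3 a4 a5 => funext fun i => by fin_cases i <;> assumption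
  rcases opts_G (w := (nW hD r τ τ : ℤ)) (by omega) (hnorm ▸ hb) sat4 with
    ⟨a0, a1, a3⟩ | ⟨a0, a1, a3⟩ | ⟨a0, a1, a3⟩ | ⟨hw2, ⟨a0, a1, a3⟩ | ⟨a0, a1, a3⟩⟩
  · exact Or.inl (ext6 _ a0 a1 (by simp [colK]; omega) a3 (by simp [colK]; omega) (by simp [colK]; omega))
  · exact Or.inr (Or.inl (ext6 _ a0 a1 (by simp [colK]; omega) a3 (by simp [colK]; omega) (by simp [colK]; omega)))
  · exact Or.inr (Or.inr (Or.inl (ext6 _ a0 a1 (by simp [colK]; omega) a3 (by simp [colK]; omega)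
      (by simp [colK]; omega))))
  · exact Or.inr (Or.inr (Or.inr ⟨by omega, Or.inl (ext6 _ a0 a1 (by simp; omega) a3 (by simp; omega)
      (by simp; omega))⟩))
  · exact Or.inr (Or.inr (Or.inr ⟨by omega, Or.inr (ext6 _ a0 a1 (by simp; omega) a3 (by simp; omega)
      (by simp; omega))⟩))

/-- A character differing from a generic one. -/
theorem coord_diffT {τ τ' : ↥(D.core.T true) →* ℂˣ} (h : τ ≠ 1) (hs : nW hD r τ τ = 1)
    (h' : τ' ≠ 1) (ho' : ¬ IsO τ') {i : Fin 3}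
    (hbase : ∀ j, classInner (upT θ (fT Ω r τ)) (x j) = (colK i j : ℂ))
    {c' : Fin 6 → ℤ} (hc' : ∀ j, classInner (upT θ (fT Ω r τ')) (x j) = (c' j : ℂ)) (hne : c' ≠ colK i) :
    nW hD r τ' τ' = 2 ∧ nW hD r τ' τ = 0 ∧
      (c' = colK 0 ∨ c' = colK 1 ∨ c' = colK 2) ∧ (i = 1 ∨ c' = colK 1) ∧
      (c' - colK i) 0 ^ 2 + (c' - colK i) 1 ^ 2 + (c' - colK i) 2 ^ 2 + (c' - colK i) 3 ^ 2 +
        (c' - colK i) 4 ^ 2 + (c' - colK i) 5 ^ 2 = 3 := by
  obtain ⟨c'', hc'', hcase⟩ := coord_optionsT hD hr hθ hgen hx h' ho'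
  obtain rfl : c'' = c' := funext fun j => by exact_mod_cast (hc'' j).symm.trans (hc' j)
  have hd : ∀ j, classInner (upT θ (fT Ω r τ') - upT θ (fT Ω r τ)) (x j) = ((c'' - colK i) j : ℂ) := fun j => by
    rw [classInner_sub_left, hc', hbase, Pi.sub_apply, Int.cast_sub]
  have hN : classInner (upT θ (fT Ω r τ') - upT θ (fT Ω r τ)) (upT θ (fT Ω r τ') - upT θ (fT Ω r τ)) =
      (((nW hD r τ' τ' : ℤ) + nW hD r τ τ - nW hD r τ' τ - nW hD r τ τ' : ℤ) : ℂ) := by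
    rw [classInner_sub_left, classInner_sub_right, classInner_sub_right, inner_upT_ff hD hr h' h',
      inner_upT_ff hD hr h' h, inner_upT_ff hD hr h h', inner_upT_ff hD hr h h]
    push_cast
    ring
  obtain ⟨hb, hsat⟩ := bessel_six hx.orth
    (isGenChar_sub (fT_genT hD hθ hgen hr τ') (fT_genT hD hθ hgen hr τ)) hd hN
  obtain ⟨E, hE, hfE⟩ := exists_ET hD hr hθ hgen hx
  have hw := nW_self hD hr h'
  have e4 : (c'' - colK i) 0 ^ 2 + (c'' - colK i) 1 ^ 2 + (c'' - colK i) 2 ^ 2 + (c'' - colK i) 3 ^ 2 +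
      (c'' - colK i) 4 ^ 2 + (c'' - colK i) 5 ^ 2 = 3 → (c'' - colK i) 4 = 0 := by
    intro h3
    have h1 := hsat (by rw [hs] at hb ⊢; omega) hE
    rw [classInner_sub_left, hfE, hfE, sub_zero] at h1
    simp only [Matrix.cons_val_zero, Matrix.cons_val_one, Matrix.cons_val] at h1
    have h2 : (0 : ℤ) = (c'' - colK i) 0 * 0 + (c'' - colK i) 1 * 0 + (c'' - colK i) 2 * 0 +
        (c'' - colK i) 3 * 0 + (c'' - colK i) 4 * 1 + (c'' - colK i) 5 * 0 := by exact_mod_cast h1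
    omega
  rw [hs] at hb
  rcases hcase with rfl | rfl | rfl | ⟨-, rfl | rfl⟩ <;> fin_cases i <;>
    simp [colK] at hb e4 hne ⊢ <;> omega

/-- All generic characters share one column. -/
theorem coord_uniformT {τ : ↥(D.core.T true) →* ℂˣ} (h : τ ≠ 1) (hs : nW hD r τ τ = 1)
    (h4 : 4 ≤ Nat.card D.core.Z) {i : Fin 3}
    (hbase : ∀ j, classInner (upT θ (fT Ω r τ)) (x j) = (colK i j : ℂ))
    {τ' : ↥(D.core.T true) →* ℂˣ} (h' : τ' ≠ 1) (ho' : ¬ IsO τ') :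
    ∀ j, classInner (upT θ (fT Ω r τ')) (x j) = (colK i j : ℂ) := by
  obtain ⟨c, hc, -⟩ := coord_optionsT hD hr hθ hgen hx h' ho'
  by_cases hci : c = colK i
  · subst hci; exact hc
  exfalso
  obtain ⟨s2, n1, hk, hadj, d3⟩ := coord_diffT hD hr hθ hgen hx h hs h' ho' hbase hc hci
  obtain ⟨τ'', h'', ho'', z1, z2⟩ := exists_third hD hr h4 τ τ' s2
  obtain ⟨c2, hc2, -⟩ := coord_optionsT hD hr hθ hgen hx h'' ho''
  have hd : ∀ j, classInner (upT θ (fT Ω r τ') - upT θ (fT Ω r τ)) (x j) = ((c - colK i) j : ℂ) := fun j => by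
    rw [classInner_sub_left, hc, hbase, Pi.sub_apply, Int.cast_sub]
  have hd2 : ∀ j, classInner (upT θ (fT Ω r τ'') - upT θ (fT Ω r τ)) (x j) = ((c2 - colK i) j : ℂ) := fun j => by
    rw [classInner_sub_left, hc2, hbase, Pi.sub_apply, Int.cast_sub]
  have hN : classInner (upT θ (fT Ω r τ') - upT θ (fT Ω r τ)) (upT θ (fT Ω r τ') - upT θ (fT Ω r τ)) =
      (((nW hD r τ' τ' : ℤ) + nW hD r τ τ - nW hD r τ' τ - nW hD r τ τ' : ℤ) : ℂ) := by
    rw [classInner_sub_left, classInner_sub_right, classInner_sub_right, inner_upT_ff hD hr h' h',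
      inner_upT_ff hD hr h' h, inner_upT_ff hD hr h h', inner_upT_ff hD hr h h]
    push_cast
    ring
  have hgd := isGenChar_sub (fT_genT hD hθ hgen hr τ') (fT_genT hD hθ hgen hr τ)
  obtain ⟨hb, hsat⟩ := bessel_six hx.orth hgd hd hN
  have hfull : (c - colK i) 0 ^ 2 + (c - colK i) 1 ^ 2 + (c - colK i) 2 ^ 2 + (c - colK i) 3 ^ 2 +
      (c - colK i) 4 ^ 2 + (c - colK i) 5 ^ 2 =
      (nW hD r τ' τ' : ℤ) + nW hD r τ τ - nW hD r τ' τ - nW hD r τ τ' := by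
    rw [s2, n1, hs] at hb ⊢
    omega
  have hv := hsat hfull hd2
  rw [classInner_sub_left, classInner_sub_right, classInner_sub_right, inner_upT_ff hD hr h' h'',
    inner_upT_ff hD hr h' h, inner_upT_ff hD hr h h'', inner_upT_ff hD hr h h, z1, z2, n1, hs] at hv
  have hv' : ((0 : ℕ) : ℤ) + 6 - (((0 : ℕ) : ℤ) + 6) - (((0 : ℕ) : ℤ) + 6 - (((1 : ℕ) : ℤ) + 6)) =
      (c - colK i) 0 * (c2 - colK i) 0 + (c - colK i) 1 * (c2 - colK i) 1 + (c - colK i) 2 * (c2 - colK i) 2 +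
        (c - colK i) 3 * (c2 - colK i) 3 + (c - colK i) 4 * (c2 - colK i) 4 +
        (c - colK i) 5 * (c2 - colK i) 5 := by exact_mod_cast hv
  have hci2 : c2 ≠ colK i := fun e => by rw [e, sub_self] at hv'; simp at hv'
  obtain ⟨s2', n1', hk', hadj', d3'⟩ := coord_diffT hD hr hθ hgen hx h hs h'' ho'' hbase hc2 hci2
  have hN2 : classInner (upT θ (fT Ω r τ'') - upT θ (fT Ω r τ)) (upT θ (fT Ω r τ'') - upT θ (fT Ω r τ)) =
      (((nW hD r τ'' τ'' : ℤ) + nW hD r τ τ - nW hD r τ'' τ - nW hD r τ τ'' : ℤ) : ℂ) := by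
    rw [classInner_sub_left, classInner_sub_right, classInner_sub_right, inner_upT_ff hD hr h'' h'',
      inner_upT_ff hD hr h'' h, inner_upT_ff hD hr h h'', inner_upT_ff hD hr h h]
    push_cast
    ring
  have hgd2 := isGenChar_sub (fT_genT hD hθ hgen hr τ'') (fT_genT hD hθ hgen hr τ)
  have hb2 := (bessel_six hx.orth hgd2 hd2 hN2).1
  have hfull2 : (c2 - colK i) 0 ^ 2 + (c2 - colK i) 1 ^ 2 + (c2 - colK i) 2 ^ 2 + (c2 - colK i) 3 ^ 2 +
      (c2 - colK i) 4 ^ 2 + (c2 - colK i) 5 ^ 2 =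
      (nW hD r τ'' τ'' : ℤ) + nW hD r τ τ - nW hD r τ'' τ - nW hD r τ τ'' := by
    rw [s2', n1', hs] at hb2 ⊢
    omega
  obtain ⟨n, B, C, k0, k1, k2, k3, k4, k5, -, hA, -⟩ := sixT_degrees hD hx
  have one : ∀ ρ : ↥(D.core.T true) →* ℂˣ, upT θ (fT Ω r ρ) 1 = 0 := fun ρ => upT_one hD θ (supp_fT hD r ρ)
  have r1 := degree_rel hD ⟨k0, k1, k2, k3, k4, k5⟩ hx.orth hgd (by simp [one]) hd hN hfull
  have r2 := degree_rel hD ⟨k0, k1, k2, k3, k4, k5⟩ hx.orth hgd2 (by simp [one]) hd2 hN2 hfull2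
  rcases hk with rfl | rfl | rfl <;> rcases hk' with rfl | rfl | rfl <;> fin_cases i <;>
    simp [colK] at hadj hadj' hci hci2 hv' r1 r2 <;> omega

/-- **The columns of the torus with the four-group.** -/
theorem coord_torusT : ∃ i : Fin 3, (∀ τ, IsO τ → ∀ j, classInner (upT θ (fT Ω r τ)) (x j) = (colO j : ℂ)) ∧
    ∀ τ, τ ≠ 1 → ¬ IsO τ → ∀ j, classInner (upT θ (fT Ω r τ)) (x j) = (colK i j : ℂ) := by
  rcases delta_cases hD with ⟨-, -, hall⟩ | ⟨h4, -⟩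
  · exact ⟨0, fun τ h => coord_OT hD hr hθ hgen hx h, fun τ h ho => absurd (hall τ h) ho⟩
  obtain ⟨τ, h, hs, ho⟩ := exists_generic hD hr h4
  obtain ⟨c, hc, hcase⟩ := coord_optionsT hD hr hθ hgen hx h ho
  obtain ⟨i, rfl⟩ : ∃ i, c = colK i := by
    rcases hcase with e | e | e | ⟨e, -⟩
    exacts [⟨0, e⟩, ⟨1, e⟩, ⟨2, e⟩, absurd e (by omega)]
  exact ⟨i, fun τ' h' => coord_OT hD hr hθ hgen hx h',
    fun τ' h' ho' => coord_uniformT hD hr hθ hgen hx h hs h4 hc h' ho'⟩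

end CfsgLib.BrauerTwist
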