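import Cfsg.Agent.Lib.BrauerTwist.Split
import Cfsg.Agent.Lib.BrauerOrder.Values

/-!
# Sums over the section of the involution in the twisted system

The weighted sums of the six twisted restrictions over the section of the involution.

Blueprint: `blueprint/RankTwo_P9.md`.
-/

set_option autoImplicit false
set_option linter.unusedSectionVars false
set_option linter.style.haveILetI false

namespace CfsgLib.BrauerTwist

open Cfsg CfsgLib.CharTheory CfsgLib.BrauerOrder CfsgLib.Blocks CfsgLib.Blocks.AbelianFree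
open scoped ComplexConjugate

universe u v

variable {G : Type u} [Group G] [Fintype G] {z : G} [Fintype (Cz z)] {Ω : Type v} [MulAction (Cz z) Ω]
  {D : Sys G z}

theorem signed_classFun {a : G → ℂ} (ha : IsSignedIrr a) : IsClassFunction G a := by
  rcases ha with h | h
  · exact isClassFunction_irr h
  · intro x y
    have := isClassFunction_irr h x y
    simpa using this

variable (D Ω) in
open Classical in
/-- The weighted sum for the torus with the four-group. -/
noncomputable def sP (θ : Cz z →* ℂˣ) (χ : G → ℂ) : ℂ :=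
  (Nat.card (D.core.T true) : ℂ) * ((Nat.card (Cz z) : ℂ)⁻¹ *
    ∑ g ∈ secZ D.core D.zc, res θ χ g * (1 + D.Sh Ω g))

variable (D Ω) in
open Classical in
/-- The weighted sum for the cyclic torus. -/
noncomputable def sR (θ : Cz z →* ℂˣ) (χ : G → ℂ) : ℂ :=
  (Nat.card (D.core.T false) : ℂ) * ((Nat.card (Cz z) : ℂ)⁻¹ *
    ∑ g ∈ secZ D.core D.zc, res θ χ g * (1 - D.Sh Ω g))

/-- The weighted sums for the cyclic torus, with `th` the value of `θ` at the involution. -/
def colB (th : ℤ) : Fin 6 → ℤ := ![1, 0, 1, 1, -2 * th, -1]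

variable [Finite Ω] (hD : D.Spec Ω) {θ : Cz z →* ℂˣ} {k : ℕ} {x : Fin 6 → G → ℂ} (hθ : IsField θ k)
  (hgen : ∀ (b : Bool) (τ : ↥(D.core.T b) →* ℂˣ), IsGeneralizedCharacter (Cz z) (D.core.R Ω b τ))
  (hx : SixT D Ω θ x)
include hD hθ hgen hx

open Classical in
/-- The sums against the cyclic torus. -/
theorem sR_formula {th : ℤ} (hth : (D.θ ⟨D.zc, hD.core.zle false hD.zcZ⟩ : ℂ) = (th : ℂ)) (i : Fin 6) :
    sR Ω D θ (x i) = (colB th i : ℂ) := by
  letI := Fintype.ofFinite (↥(D.core.T false) →* ℂˣ)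
  have hcl := signed_classFun (hx.orth.signed i)
  rw [sR, ← sum_phi hD (res_classFun θ hcl)]
  set zz : ↥(D.core.T false) := ⟨D.zc, hD.core.zle false hD.zcZ⟩
  set L := D.lamT false
  set t0 := D.θ
  set t0' := D.core.conjChar (hD.core.nnorm false) D.θ
  obtain ⟨t1, tl⟩ : t0 ≠ 1 ∧ t0 ≠ L := th_ne hD
  have hne : t0' ≠ t0 := hD.thne
  have hfix : D.core.conjChar (hD.core.nnorm false) L = L := conjChar_lamT hD false
  have t1' : t0' ≠ 1 := fun h => t1 (by
    have h2 := congrArg (D.core.conjChar (hD.core.nnorm false)) h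
    rwa [conjChar_conjChar hD, conjChar_one hD] at h2)
  have tl' : t0' ≠ L := fun h => tl (by
    have h2 := congrArg (D.core.conjChar (hD.core.nnorm false)) h
    rwa [conjChar_conjChar hD, hfix] at h2)
  have hzero : ∑ φ : ↥(D.core.T false) →* ℂˣ, (φ zz : ℂ) = 0 := by
    rw [sum_hom_abelian (fun a b => Subtype.ext (hD.core.tcomm false _ a.2 _ b.2)),
      if_neg fun h => (zc_ne hD).1 (congrArg Subtype.val h)]
  have hth' : (t0' zz : ℂ) = (th : ℂ) := by
    rw [← hth]
    show ((t0 ⟨D.core.n false * D.zc * (D.core.n false)⁻¹, _⟩ : ℂˣ) : ℂ) = _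
    congr 2
    exact Subtype.ext ((hD.core.nfix false _ (hD.core.zle false hD.zcZ)).2 hD.zcZ)
  have hL : (L zz : ℂ) = 1 := by
    show ((D.lam D.zc : ℂˣ) : ℂ) = 1
    rw [hD.lamz, Units.val_one]
  set A := ((![-1, 0, 1, -1, 0, -1] : Fin 6 → ℤ) i : ℂ) with hA
  set B := ((![-1, 0, 0, -1, -1, 0] : Fin 6 → ℤ) i : ℂ) with hB
  set Cg := ((![-1, 0, 0, -1, 0, 0] : Fin 6 → ℤ) i : ℂ) with hC
  let w : (↥(D.core.T false) →* ℂˣ) → ℂ := fun φ =>
    if φ = 1 then 0 else if φ = L then A else if φ = t0 ∨ φ = t0' then B else Cg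
  have hw : ∀ φ, classInner (res θ (x i)) (D.core.R Ω false φ) -
      classInner (res θ (x i)) (D.core.R Ω false 1) = w φ := by
    intro φ
    by_cases h1 : φ = 1
    · simp [w, h1]
    obtain ⟨cl, co, cn⟩ := coord_allT hD hgen hx h1
    rw [← classInner_sub_right, ← classInner_comm, ← inner_upT_left θ _ hcl]
    simp only [w, if_neg h1]
    by_cases hl : φ = L
    · rw [if_pos hl, ← Vt, cl hl i, map_intCast]
    · rw [if_neg hl]
      by_cases ho : φ = t0 ∨ φ = t0'
      · rw [if_pos ho, ← Vt, co hl ho i, map_intCast]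
      · rw [if_neg ho, ← Vt, cn hl ho i, map_intCast]
  have e1 : ∑ φ : ↥(D.core.T false) →* ℂˣ, (φ zz : ℂ) * classInner (res θ (x i)) (D.core.R Ω false φ) =
      ∑ φ : ↥(D.core.T false) →* ℂˣ, (φ zz : ℂ) * w φ := by
    simp only [← hw, mul_sub, Finset.sum_sub_distrib, ← Finset.sum_mul, hzero, zero_mul, sub_zero]
  rw [e1]
  have hterm : ∀ φ : ↥(D.core.T false) →* ℂˣ, (φ zz : ℂ) * w φ = Cg * (φ zz : ℂ) -
      (if φ = 1 then Cg else 0) + (if φ = L then A - Cg else 0) +
      ((if φ = t0 then (th : ℂ) * (B - Cg) else 0) + (if φ = t0' then (th : ℂ) * (B - Cg) else 0)) := by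
    intro φ
    simp only [w]
    by_cases h1 : φ = 1
    · subst h1
      simp [(lamT_ne_one hD false).symm, t1.symm, t1'.symm, L]
    by_cases hl : φ = L
    · subst hl
      simp only [if_neg h1, if_pos trivial, if_neg tl.symm, if_neg tl'.symm, hL]
      ring
    by_cases ha : φ = t0
    · subst ha
      simp only [if_neg h1, if_neg hl, true_or, if_true, if_neg hne.symm]
      rw [hth]
      ring
    by_cases hb : φ = t0'
    · subst hb
      simp only [if_neg h1, if_neg hl, if_neg ha, or_true, if_true, hth']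
      ring
    simp only [if_neg h1, if_neg hl, if_neg ha, if_neg hb, if_neg (not_or.2 ⟨ha, hb⟩)]
    ring
  simp only [hterm, Finset.sum_add_distrib, Finset.sum_sub_distrib, ← Finset.mul_sum, hzero,
    Finset.sum_ite_eq', Finset.mem_univ, if_true, hA, hB, hC, colB]
  fin_cases i <;> simp <;> push_cast <;> ring

open Classical in
/-- The sums against the torus with the four-group. -/
theorem sP_formula {δ : ℤ} (hδ : (D.τ0 ⟨D.zc, zcU hD⟩ : ℂ) = (δ : ℂ)) :
    ∃ j : Fin 3, ∀ i : Fin 6,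
      sP Ω D θ (x i) = (((2 * δ + 1) * colO i + (-2 - 2 * δ) * colK j i : ℤ) : ℂ) := by
  letI := Fintype.ofFinite (↥(D.core.T true) →* ℂˣ)
  obtain ⟨r, g, hr⟩ := exists_auto hD
  obtain ⟨j, hO, hN⟩ := coord_torusT hD hr hθ hgen hx
  refine ⟨j, fun i => ?_⟩
  have hcl := signed_classFun (hx.orth.signed i)
  rw [sP, res_eq hθ, ← sum_fT hD hr (untw_classFun hθ hcl)]
  set zz : ↥(D.core.T true) := ⟨D.zc, zcU hD⟩
  set t0 := D.τ0
  set t0' := cnC hD D.τ0
  set L := D.lamT true
  obtain ⟨d1, d2, d3⟩ := tau0_distinct hD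
  obtain ⟨o1, o2, o3⟩ := tau0_isO hD
  set A := (colO i : ℂ) with hA
  set B := (colK j i : ℂ) with hB
  have hfrob : ∀ τ, classInner (fun y : Cz z => untw θ (x i) y) (fT Ω r τ) =
      conj (classInner (upT θ (fT Ω r τ)) (x i)) := fun τ => by
    rw [inner_upT_left θ _ hcl, classInner_comm, res_eq hθ]
  have hf1 : fT Ω r (1 : ↥(D.core.T true) →* ℂˣ) = 0 := by
    funext y
    simp only [fT, gT, cr_one hr, Pi.sub_apply, Pi.add_apply, Pi.smul_apply, smul_eq_mul, Pi.zero_apply]
    split_ifs <;> ring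
  have hz0 : ∑ τ : ↥(D.core.T true) →* ℂˣ, (τ zz : ℂ) = 0 := by
    rw [sum_hom_apply_T hD, if_neg fun h => (zc_ne hD).1 (congrArg Subtype.val h)]
  have ht' : (t0' zz : ℂ) = (t0 zz : ℂ) := by
    show ((t0 ⟨D.core.n true * D.zc * (D.core.n true)⁻¹, _⟩ : ℂˣ) : ℂ) = _
    congr 2
    exact Subtype.ext ((hD.core.nfix true _ (zcU hD)).2 hD.zcZ)
  have hL : (L zz : ℂ) = 1 := by
    show ((D.lam D.zc : ℂˣ) : ℂ) = 1
    rw [hD.lamz, Units.val_one]
  have hterm : ∀ τ : ↥(D.core.T true) →* ℂˣ,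
      (τ zz : ℂ) * classInner (fun y : Cz z => untw θ (x i) y) (fT Ω r τ) =
      B * (τ zz : ℂ) - (if τ = 1 then B else 0) + (if τ = L then A - B else 0) +
      ((if τ = t0 then (t0 zz : ℂ) * (A - B) else 0) + (if τ = t0' then (t0 zz : ℂ) * (A - B) else 0)) := by
    intro τ
    by_cases h1 : τ = 1
    · subst h1
      rw [hf1]
      simp [classInner, (lamT_ne_one hD true).symm, o1.1.symm, o2.1.symm, L, t0, t0']
    rw [hfrob]
    by_cases ho : IsO τ
    · rw [hO τ ho i, map_intCast]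
      rcases (isO_iff hD τ).1 ho with rfl | rfl | rfl <;> simp only [t0, t0', L] at ht' hL ⊢
      · simp only [if_neg h1, if_neg d2, if_pos trivial, if_neg (Ne.symm d1)]; ring
      · simp only [if_neg h1, if_neg d3, if_neg d1, if_pos trivial, ht']; ring
      · simp only [if_neg h1, if_pos trivial, if_neg (Ne.symm d2), if_neg (Ne.symm d3), hL]; ring
    · have q1 : τ ≠ L := fun h => ho (by rw [h]; exact o3)
      have q2 : τ ≠ t0 := fun h => ho (by rw [h]; exact o1)
      have q3 : τ ≠ t0' := fun h => ho (by rw [h]; exact o2)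
      rw [hN τ h1 ho i, map_intCast, if_neg h1, if_neg q1, if_neg q2, if_neg q3]
      simp only [add_zero, sub_zero]
      rw [mul_comm]
  simp only [hterm, Finset.sum_add_distrib, Finset.sum_sub_distrib, ← Finset.mul_sum, hz0,
    Finset.sum_ite_eq', Finset.mem_univ, if_true]
  rw [hδ, hA, hB]
  push_cast
  ring

end CfsgLib.BrauerTwist
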