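import Cfsg.Agent.Lib.BrauerTwist.Sums
import Cfsg.Agent.Lib.BrauerTwist.Part

/-!
# The block of the twisted system

The block induced by the block of `θ`: multiplication by the conjugate character carries the blocks over it to the
principal block of the centraliser, so twisted restrictions of its members are combinations of `1 + Sh`, `1 - Sh`
on the section of the involution.

Blueprint: `blueprint/RankTwo_P9.md`.
-/

set_option autoImplicit false
set_option linter.unusedSectionVars false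
set_option linter.style.haveILetI false

namespace CfsgLib.BrauerTwist

open Cfsg CfsgLib.CharTheory CfsgLib.BrauerOrder CfsgLib.Blocks CfsgLib.Blocks.AbelianFree
open scoped ComplexConjugate

universe u v

variable {G : Type u} [Group G] [Fintype G] {z : G} [Fintype (Cz z)] {θ : Cz z →* ℂˣ} {k : ℕ}
  {M : Ideal AlgInt}

/-- The character as an irreducible character. -/
noncomputable def linIrr (θ : Cz z →* ℂˣ) : IrrCharacter (Cz z) := ⟨fun c => (θ c : ℂ), isIrrCharacter_linear θ⟩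

/-- An irreducible character divided by the character. -/
noncomputable def untwIrr (θ : Cz z →* ℂˣ) (ψ : IrrCharacter (Cz z)) : IrrCharacter (Cz z) :=
  ⟨(ψ : Cz z → ℂ) * fun c => ((θ⁻¹ c : ℂˣ) : ℂ),
    isIrrCharacter_mul_linear ψ.2 (isIrrCharacter_linear θ⁻¹) (by simp)⟩

theorem untwIrr_apply (θ : Cz z →* ℂˣ) (ψ : IrrCharacter (Cz z)) (c : Cz z) :
    (untwIrr θ ψ : Cz z → ℂ) c = conj (θ c : ℂ) * (ψ : Cz z → ℂ) c := by
  show (ψ : Cz z → ℂ) c * ((θ⁻¹ c : ℂˣ) : ℂ) = _
  rw [conj_hom_apply, MonoidHom.inv_apply, map_inv, mul_comm]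

theorem untwIrr_lin (θ : Cz z →* ℂˣ) : untwIrr θ (linIrr θ) = oneIrr (Cz z) := by
  refine Subtype.ext (funext fun c => ?_)
  rw [untwIrr_apply]
  show conj (θ c : ℂ) * (θ c : ℂ) = 1
  rw [mul_comm, norm_theta]

theorem icc_untw (hθ : IsField θ k) (ψ : IrrCharacter (Cz z)) (g : G) :
    inducedCentralChar (Subgroup.centralizer ({z} : Set G)) (untwIrr θ ψ : Cz z → ℂ) g =
      conj (ext θ g) * inducedCentralChar (Subgroup.centralizer ({z} : Set G)) (ψ : Cz z → ℂ) g := by
  rw [inducedCentralChar, inducedCentralChar, mul_finsum_mem]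
  refine finsum_mem_congr rfl fun h hh => ?_
  obtain ⟨x, hx⟩ := isConj_iff.1 (show IsConj g (h : G) from hh)
  rw [untwIrr_apply, untwIrr_apply, map_one, Units.val_one, map_one, one_mul, ← ext_coe hθ h, ← hx,
    ext_classFun hθ g x, mul_div_assoc]

theorem memRing_ext (hM : IsPModular 2 M) (hθ : IsField θ k) (g : G) : MemLocalRing M (conj (ext θ g)) := by
  refine memRing_of_isIntegral hM (IsIntegral.of_pow hθ.odd.pos ?_)
  have h : ext θ g ^ k = 1 := by
    rw [ext]
    split_ifs with h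
    · rw [← Units.val_pow_eq_pow_val, hθ.pow, Units.val_one]
    · rw [one_pow]
  rw [← map_pow, h, map_one]
  exact isIntegral_one

/-- A character over the block of `θ` is, divided by `θ`, in the principal block. -/
theorem untw_principal (hM : IsPModular 2 M) (hθ : IsField θ k) (hz : orderOf z = 2)
    {B : Set (IrrCharacter G)} (hl : linIrr θ ∈ overBlocks M (Subgroup.centralizer ({z} : Set G)) B)
    {ψ : IrrCharacter (Cz z)} (hψ : ψ ∈ overBlocks M (Subgroup.centralizer ({z} : Set G)) B) :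
    untwIrr θ ψ ∈ principalBlock M (Cz z) := by
  classical
  set H := Subgroup.centralizer ({z} : Set G)
  have hH : IsCentr z H := isCentr_singleton z
  have hx : ∃ k : ℕ, orderOf z = 2 ^ k := ⟨1, by rw [hz, pow_one]⟩
  have hover := overBlocks_principal hM hH hx
  have h1mem : oneIrr (Cz z) ∈ overBlocks M H (principalBlock M G) := hover ▸ oneIrr_mem hM
  have hind1 : IsInducedBlock M H (blockOf M (oneIrr (Cz z) : Cz z → ℂ)) (principalBlock M G) := h1mem
  have hindψ : IsInducedBlock M H (blockOf M (ψ : Cz z → ℂ)) B := hψ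
  have hindl : IsInducedBlock M H (blockOf M (linIrr θ : Cz z → ℂ)) B := hl
  obtain ⟨χ, hχ⟩ := block_nonempty hM hindl.2.1
  rw [← hover]
  refine isInducedBlock_of_congr H hM (blockOf_isPBlock (untwIrr θ ψ)) principalBlock_isPBlock
    (mem_blockOf_self hM _) (oneIrr_mem hM) fun g => ?_
  have a1 := hindψ.2.2 ψ (mem_blockOf_self hM ψ) χ hχ g
  have a2 := hindl.2.2 _ (mem_blockOf_self hM (linIrr θ)) χ hχ g
  have a3 := hind1.2.2 _ (mem_blockOf_self hM (oneIrr (Cz z))) (oneIrr G) (oneIrr_mem hM) g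
  have a4 := memIdeal_mul_left hM (memRing_ext hM hθ g) (memIdeal_add hM a1 (memIdeal_neg hM a2))
  have e1 := icc_untw hθ ψ g
  have e2 := icc_untw hθ (linIrr θ) g
  rw [untwIrr_lin] at e2
  refine (congrArg (MemLocalIdeal M) ?_).mp (memIdeal_add hM a4 a3)
  rw [e1, e2]
  ring

variable {Ω : Type v} [MulAction (Cz z) Ω] [Finite Ω] {D : Sys G z} (hD : D.Spec Ω)
include hD

/-- The section as a translate of the regular elements. -/
theorem sum_secZ_regular (f : Cz z → ℂ) :
    ∑ g ∈ secZ D.core D.zc, f g = ∑ v ∈ Finset.univ.filter (fun v : Cz z => ¬ 2 ∣ orderOf v), f (D.zc * v) := by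
  classical
  symm
  refine Finset.sum_nbij (fun v => D.zc * v) (fun v hv => ?_) (fun a _ b _ e => mul_left_cancel e)
    (fun g hg => ?_) (fun v _ => rfl)
  · rw [mem_secZ, p2_mul (two_of_mem hD.core (hD.core.zle true hD.zcZ)) (zc_comm hD v) (by simpa using hv),
      mul_inv_cancel]
    exact one_mem _
  · obtain ⟨v, hv, rfl, -⟩ := secZ_zc (Ω := Ω) hD hg
    exact ⟨v, by simpa using hv, rfl⟩

theorem res_zc_mul (hθ : IsField θ k) (χ : G → ℂ) (v : Cz z) :
    res θ χ (D.zc * v) = conj (θ v : ℂ) * χ (z * (v : G)) := by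
  rw [res, map_mul, two_trivial hθ (two_of_mem hD.core (hD.core.zle true hD.zcZ)), one_mul, Subgroup.coe_mul,
    hD.zcv]

/-- **The block of the twisted system.** -/
theorem exists_block (hM : IsPModular 2 M) (hθ : IsField θ k) :
    ∃ B : Set (IrrCharacter G), IsPBlock M B ∧ ∀ χ : IrrCharacter G,
      (χ ∈ B → ∃ p q : ℂ, (χ : G → ℂ) z = p * (1 + (D.Q : ℂ)) + q * (1 - (D.Q : ℂ)) ∧
        ∀ g ∈ secZ D.core D.zc, res θ (χ : G → ℂ) g = p * (1 + D.Sh Ω g) + q * (1 - D.Sh Ω g)) ∧
      (χ ∉ B → ∑ g ∈ secZ D.core D.zc, res θ (χ : G → ℂ) g = 0) := by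
  classical
  set H := Subgroup.centralizer ({z} : Set G)
  have hH : IsCentr z H := isCentr_singleton z
  have hz : ∃ k : ℕ, orderOf z = 2 ^ k := ⟨1, by rw [hD.zord, pow_one]⟩
  obtain ⟨χ₀, hχ₀⟩ := exists_induced_centr hM hH hz (linIrr θ)
  set B := blockOf M (χ₀ : G → ℂ)
  have hB : IsPBlock M B := blockOf_isPBlock χ₀
  have hl : linIrr θ ∈ overBlocks M H B := isInducedBlock_of_congr H hM (blockOf_isPBlock (linIrr θ)) hB
    (mem_blockOf_self hM _) (mem_blockOf_self hM χ₀) hχ₀
  obtain ⟨b, x, n, hr⟩ := hD.rot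
  have hreg : ∀ ψ : IrrCharacter (Cz z), ∃ α β : ℂ, ψ ∈ overBlocks M H B →
      ∀ v : Cz z, ¬ 2 ∣ orderOf v → conj (θ v : ℂ) * (ψ : Cz z → ℂ) v = α + β * St Ω v := by
    intro ψ
    by_cases hψ : ψ ∈ overBlocks M H B
    · obtain ⟨α, β, hab⟩ := principal_reg hM hD.core hr (untw_principal hM hθ hD.zord hl hψ)
      exact ⟨α, β, fun _ v hv => by rw [← untwIrr_apply]; exact hab v hv⟩
    · exact ⟨0, 0, fun e => absurd e hψ⟩
  choose α β hab using hreg
  refine ⟨B, hB, fun χ => ⟨fun hχ => ?_, fun hχ => ?_⟩⟩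
  · set c : IrrCharacter (Cz z) → ℂ := fun ψ => classInner (sec z H (χ : G → ℂ)) (ψ : Cz z → ℂ)
    set a := ∑ ψ ∈ bset (overBlocks M H B), c ψ * α ψ
    set bb := ∑ ψ ∈ bset (overBlocks M H B), c ψ * β ψ
    set s := (D.core.σ true : ℂ)
    have hs : s * s = 1 := sigma_sq hD
    have hval : ∀ v : Cz z, ¬ 2 ∣ orderOf v → res θ (χ : G → ℂ) (D.zc * v) =
        (a + s * bb) / 2 * (1 + D.Sh Ω v) + (a - s * bb) / 2 * (1 - D.Sh Ω v) := by
      intro v hv
      have h1 := sec_eq_overBlocks hM hH hz hB χ (y := v) hv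
      rw [ind_of_mem hχ, one_mul, blockPart_apply] at h1
      rw [res_zc_mul hD hθ, ← h1, Finset.mul_sum,
        Finset.sum_congr rfl fun (ψ : IrrCharacter (Cz z)) hψ => show
          conj (θ v : ℂ) * (classInner (sec z H (χ : G → ℂ)) (ψ : Cz z → ℂ) * (ψ : Cz z → ℂ) v) =
            c ψ * α ψ + c ψ * β ψ * St Ω v by
          rw [mul_left_comm, hab ψ (mem_bset.1 hψ) v hv]; ring,
        Finset.sum_add_distrib, ← Finset.sum_mul]
      show a + bb * St Ω v = (a + s * bb) / 2 * (1 + s * St Ω v) + (a - s * bb) / 2 * (1 - s * St Ω v)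
      linear_combination (-(bb * St Ω v)) * hs
    refine ⟨(a + s * bb) / 2, (a - s * bb) / 2, ?_, fun g hg => ?_⟩
    · have := hval 1 (by simp)
      rw [res_zc_mul hD hθ, OneMemClass.coe_one, mul_one, Sh_one hD, map_one, Units.val_one, map_one, one_mul]
        at this
      exact this
    · obtain ⟨v, hv, rfl, e⟩ := secZ_zc (Ω := Ω) hD hg
      rw [hval v hv, e]
  · set c : IrrCharacter (Cz z) → ℂ := fun ψ => classInner (sec z H (χ : G → ℂ)) (ψ : Cz z → ℂ)
    set L := Finset.univ.filter (fun v : Cz z => ¬ 2 ∣ orderOf v)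
    rw [sum_secZ_regular (Ω := Ω) hD]
    have hsplit : ∀ v ∈ L, res θ (χ : G → ℂ) (D.zc * v) =
        ∑ ψ ∈ (bset (overBlocks M H B))ᶜ, c ψ * ((ψ : Cz z → ℂ) v * conj (θ v : ℂ)) := by
      intro v hv
      have hv' : ¬ 2 ∣ orderOf v := (Finset.mem_filter.1 hv).2
      have h0 := sec_eq_overBlocks hM hH hz hB χ (y := v) hv'
      rw [ind_of_notMem hχ, zero_mul, blockPart_apply] at h0
      have h1 := congrFun (eq_sum_irr (sec_isClassFunction hH χ)) v
      simp only [Finset.sum_apply, Pi.smul_apply, smul_eq_mul] at h1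
      rw [← Finset.sum_add_sum_compl (bset (overBlocks M H B)), h0, zero_add] at h1
      rw [res_zc_mul hD hθ, show (χ : G → ℂ) (z * (v : G)) = sec z H (χ : G → ℂ) v from rfl, h1, Finset.mul_sum]
      exact Finset.sum_congr rfl fun ψ _ => by ring
    rw [Finset.sum_congr rfl hsplit, Finset.sum_comm]
    refine Finset.sum_eq_zero fun ψ hψ => ?_
    rw [← Finset.mul_sum]
    refine mul_eq_zero_of_right _ ?_
    have hns : ¬ SameBlock M (ψ : Cz z → ℂ) (linIrr θ : Cz z → ℂ) := by
      intro hs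
      refine Finset.mem_compl.1 hψ (mem_bset.2 ?_)
      show IsInducedBlock M H (blockOf M (ψ : Cz z → ℂ)) B
      rw [← blockOf_eq_of_mem hM (show linIrr θ ∈ blockOf M (ψ : Cz z → ℂ) from hs)]
      exact hl
    refine Eq.trans ?_ (regS_eq_zero hM hns)
    simp only [regS]
    rw [Finset.sum_filter]
    refine Finset.sum_congr rfl fun v _ => ?_
    by_cases hv : 2 ∣ orderOf v
    · simp [regFn, hv]
    · rw [if_pos hv, regFn, if_neg hv, mul_comm, ← irr_conjInv (linIrr θ) v]
      rfl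

end CfsgLib.BrauerTwist
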