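import Cfsg.Agent.Lib.BrauerTwist.TwoBlock
import Cfsg.Agent.Lib.BrauerOrder.Main

/-!
# The values of the twisted six at the involution

The six characters lie in the block of the twisted system and have the same values as the principal six.

Blueprint: `blueprint/RankTwo_P9.md`.
-/

set_option autoImplicit false
set_option linter.unusedSectionVars false
set_option linter.style.haveILetI false
set_option linter.unnecessarySeqFocus false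

namespace CfsgLib.BrauerTwist

open Cfsg CfsgLib.CharTheory CfsgLib.BrauerOrder CfsgLib.Blocks CfsgLib.Blocks.AbelianFree
open scoped ComplexConjugate

universe u v

variable {G : Type u} [Group G] [Fintype G] {z : G} [Fintype (Cz z)] {Ω : Type v} [MulAction (Cz z) Ω]
  {D : Sys G z}

theorem sP_smul (θ : Cz z →* ℂˣ) (ε : ℂ) (χ : G → ℂ) : sP Ω D θ (ε • χ) = ε * sP Ω D θ χ := by
  simp only [sP, res, Pi.smul_apply, smul_eq_mul, Finset.mul_sum]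
  exact Finset.sum_congr rfl fun g _ => by ring

theorem sR_smul (θ : Cz z →* ℂˣ) (ε : ℂ) (χ : G → ℂ) : sR Ω D θ (ε • χ) = ε * sR Ω D θ χ := by
  simp only [sR, res, Pi.smul_apply, smul_eq_mul, Finset.mul_sum]
  exact Finset.sum_congr rfl fun g _ => by ring

variable [Finite Ω] (hD : D.Spec Ω) {θ : Cz z →* ℂˣ} {k : ℕ} {M : Ideal AlgInt}
include hD

/-- In the block the value is given by the two sums; outside they cancel. -/
theorem block_data (hM : IsPModular 2 M) (hθ : IsField θ k) :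
    ∃ B : Set (IrrCharacter G), IsPBlock M B ∧ ∀ (χ : IrrCharacter G) (ε : ℂ),
      (χ ∈ B → (ε • (χ : G → ℂ)) z = sP Ω D θ (ε • (χ : G → ℂ)) / 2 * (1 + (D.Q : ℂ)) +
          sR Ω D θ (ε • (χ : G → ℂ)) / 2 * (1 - (D.Q : ℂ))) ∧
      (χ ∉ B → sP Ω D θ (ε • (χ : G → ℂ)) * (Nat.card (D.core.T false) : ℂ) +
          sR Ω D θ (ε • (χ : G → ℂ)) * (Nat.card (D.core.T true) : ℂ) = 0) := by
  classical
  obtain ⟨B, hB, h⟩ := exists_block (Ω := Ω) hD hM hθ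
  refine ⟨B, hB, fun χ ε => ⟨fun hχ => ?_, fun hχ => ?_⟩⟩
  · obtain ⟨p, q, hv, hs⟩ := (h χ).1 hχ
    obtain ⟨e1, e2⟩ := sum_secZ_combination (Ω := Ω) hD p q hs
    have hC : (Nat.card (Cz z) : ℂ) ≠ 0 := Nat.cast_ne_zero.2 Nat.card_pos.ne'
    have hT : (Nat.card (D.core.T true) : ℂ) ≠ 0 := Nat.cast_ne_zero.2 Nat.card_pos.ne'
    have hF : (Nat.card (D.core.T false) : ℂ) ≠ 0 := Nat.cast_ne_zero.2 Nat.card_pos.ne'
    have a1 : sP Ω D θ (χ : G → ℂ) = 2 * p := by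
      rw [sP, e1]; field_simp
    have a2 : sR Ω D θ (χ : G → ℂ) = 2 * q := by
      rw [sR, e2]; field_simp
    rw [sP_smul, sR_smul, a1, a2, Pi.smul_apply, smul_eq_mul, hv]
    ring
  · have e0 := (h χ).2 hχ
    have e1 : ∑ g ∈ secZ D.core D.zc, res θ (χ : G → ℂ) g * (1 + D.Sh Ω g) +
        ∑ g ∈ secZ D.core D.zc, res θ (χ : G → ℂ) g * (1 - D.Sh Ω g) = 0 := by
      rw [← Finset.sum_add_distrib, Finset.sum_congr rfl fun g _ => show
        res θ (χ : G → ℂ) g * (1 + D.Sh Ω g) + res θ (χ : G → ℂ) g * (1 - D.Sh Ω g) =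
          2 * res θ (χ : G → ℂ) g by ring, ← Finset.mul_sum, e0, mul_zero]
    rw [sP_smul, sR_smul, sP, sR]
    linear_combination (ε * (Nat.card (D.core.T true) : ℂ) * (Nat.card (D.core.T false) : ℂ) *
      (Nat.card (Cz z) : ℂ)⁻¹) * e1

/-- The orders of the two tori in their weighted combinations. -/
theorem weights_ne {a b : ℤ} (h : (a ≠ 0 ∧ b = 0) ∨ (a = 0 ∧ b ≠ 0) ∨
    ((a = 1 ∧ b = 1) ∨ (a = -1 ∧ b = -1) ∨ (a = 3 ∧ b = 1) ∨ (a = 3 ∧ b = -1) ∨ (a = -3 ∧ b = 1))) :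
    (a : ℂ) * (Nat.card (D.core.T false) : ℂ) + (b : ℂ) * (Nat.card (D.core.T true) : ℂ) ≠ 0 := by
  obtain ⟨i, hi⟩ := card_T_pow hD.core false
  obtain ⟨j, hj⟩ := card_T_pow hD.core true
  rw [hi, hj]
  have hne : 3 * 2 ^ i ≠ 2 ^ j := fun e => by
    have h3 : 3 ∣ 2 ^ j := ⟨_, e.symm⟩
    have := (Nat.prime_dvd_prime_iff_eq Nat.prime_three Nat.prime_two).1 (Nat.prime_three.dvd_of_dvd_pow h3)
    omega
  intro e
  have e' : a * ((2 ^ i : ℕ) : ℤ) + b * ((2 ^ j : ℕ) : ℤ) = 0 := by exact_mod_cast e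
  have p1 : 0 < 2 ^ i := Nat.two_pow_pos i
  have p2 : 0 < 2 ^ j := Nat.two_pow_pos j
  generalize 2 ^ i = m at *
  generalize 2 ^ j = m' at *
  rcases h with ⟨ha, rfl⟩ | ⟨rfl, hb⟩ | ⟨rfl, rfl⟩ | ⟨rfl, rfl⟩ | ⟨rfl, rfl⟩ | ⟨rfl, rfl⟩ | ⟨rfl, rfl⟩
  · rw [zero_mul, add_zero] at e'
    rcases mul_eq_zero.1 e' with h | h
    · exact ha h
    · omega
  · rw [zero_mul, zero_add] at e'
    rcases mul_eq_zero.1 e' with h | h
    · exact hb h
    · omega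
  all_goals omega

variable {x : Fin 6 → G → ℂ}

/-- **The values at the involution.** -/
theorem values (hθ : IsField θ k)
    (hgen : ∀ (b : Bool) (τ : ↥(D.core.T b) →* ℂˣ), IsGeneralizedCharacter (Cz z) (D.core.R Ω b τ))
    (hx : SixT D Ω θ x) :
    (∃ s : ℤ, (s = 1 ∨ s = -1) ∧ (D.θ ⟨D.zc, hD.core.zle false hD.zcZ⟩ : ℂ) = (s : ℂ) ∧
        x 4 z = (s : ℂ) * ((D.Q : ℂ) - 1)) ∧
      ((Nat.card D.core.Z = 2 ∧ (D.τ0 ⟨D.zc, zcU hD⟩ : ℂ) = -1 ∧ x 0 z = 1 ∧ x 1 z = -((D.Q : ℂ) + 1) ∧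
          x 2 z = -(D.Q : ℂ) ∧ x 3 z = -(D.Q : ℂ) ∧ x 5 z = -1) ∨
       (4 ≤ Nat.card D.core.Z ∧ (D.τ0 ⟨D.zc, zcU hD⟩ : ℂ) = 1 ∧
          ((x 0 z = 1 ∧ x 1 z = -((D.Q : ℂ) + 1) ∧ x 2 z = (D.Q : ℂ) + 2 ∧ x 3 z = -(D.Q : ℂ) ∧
              x 5 z = 2 * (D.Q : ℂ) + 1) ∨
           (x 0 z = 1 ∧ x 1 z = (D.Q : ℂ) + 1 ∧ x 2 z = -(D.Q : ℂ) ∧ x 3 z = -(D.Q : ℂ) ∧ x 5 z = -1) ∨
           (x 0 z = -(2 * (D.Q : ℂ) + 1) ∧ x 1 z = -((D.Q : ℂ) + 1) ∧ x 2 z = -(D.Q : ℂ) ∧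
              x 3 z = (D.Q : ℂ) + 2 ∧ x 5 z = -1)))) := by
  classical
  obtain ⟨M, hM⟩ := exists_isPModular Nat.prime_two
  obtain ⟨th, hth, hth'⟩ : ∃ th : ℤ, (D.θ ⟨D.zc, hD.core.zle false hD.zcZ⟩ : ℂ) = (th : ℂ) ∧
      (th = 1 ∨ th = -1) := by
    have hsq : (D.θ ⟨D.zc, hD.core.zle false hD.zcZ⟩ : ℂ) * (D.θ ⟨D.zc, hD.core.zle false hD.zcZ⟩ : ℂ) = 1 := by
      rw [← Units.val_mul, ← map_mul,
        show (⟨D.zc, hD.core.zle false hD.zcZ⟩ : ↥(D.core.T false)) * ⟨D.zc, hD.core.zle false hD.zcZ⟩ = 1 from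
          Subtype.ext (zc_ne hD).2, map_one, Units.val_one]
    rcases mul_self_eq_one_iff.1 hsq with h | h
    · exact ⟨1, by rw [h, Int.cast_one], Or.inl rfl⟩
    · exact ⟨-1, by rw [h]; norm_num, Or.inr rfl⟩
  obtain ⟨δ, hδ, hcase⟩ : ∃ δ : ℤ, (D.τ0 ⟨D.zc, zcU hD⟩ : ℂ) = (δ : ℂ) ∧
      ((δ = -1 ∧ Nat.card D.core.Z = 2) ∨ (δ = 1 ∧ 4 ≤ Nat.card D.core.Z)) := by
    rcases delta_cases hD with ⟨h2, h, -⟩ | ⟨h4, h⟩
    · exact ⟨-1, by rw [h]; norm_num, Or.inl ⟨rfl, h2⟩⟩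
    · exact ⟨1, by rw [h]; norm_num, Or.inr ⟨rfl, h4⟩⟩
  obtain ⟨B, hB, hb⟩ := block_data (Ω := Ω) hD hM hθ
  obtain ⟨j, hP⟩ := sP_formula hD hθ hgen hx hδ
  have hR := sR_formula hD hθ hgen hx hth
  choose χ ε hε hχ using fun i => exists_irr (hx.orth.signed i)
  set P : Fin 6 → ℤ := fun i => (2 * δ + 1) * colO i + (-2 - 2 * δ) * colK j i with hPdef
  have hin : ∀ i, ((P i ≠ 0 ∧ colB th i = 0) ∨ (P i = 0 ∧ colB th i ≠ 0) ∨
      ((P i = 1 ∧ colB th i = 1) ∨ (P i = -1 ∧ colB th i = -1) ∨ (P i = 3 ∧ colB th i = 1) ∨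
        (P i = 3 ∧ colB th i = -1) ∨ (P i = -3 ∧ colB th i = 1))) → χ i ∈ B := by
    intro i hi
    by_contra hni
    have h0 := (hb (χ i) (ε i)).2 hni
    rw [← hχ, hP i, hR i] at h0
    exact weights_ne (Ω := Ω) hD hi h0
  have m : ∀ i, i = 0 ∨ i = 1 ∨ i = 4 ∨ i = 5 → χ i ∈ B := by
    intro i hi
    refine hin i ?_
    rcases hi with rfl | rfl | rfl | rfl <;> rcases hcase with ⟨rfl, -⟩ | ⟨rfl, -⟩ <;>
      rcases hth' with rfl | rfl <;> fin_cases j <;> simp [P, colO, colK, colB]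
  have hU : ∀ ψ ∈ B, blockOf M (ψ : G → ℂ) ⊆ B := fun ψ hψ => (eq_blockOf hM hB hψ).symm.subset
  obtain ⟨n, Bd, C, k0, k1, k2, k3, k4, k5, -, -, hB0, hC0, -, -⟩ := sixT_degrees hD hx
  obtain ⟨s1, s1', -⟩ := supp_th hD
  have hpart : ∀ {f : Cz z → ℂ}, D.Supp f → part B (upT θ f) 1 = 0 := fun {f} hf =>
    part_eq_zero hM hU (fun g hg => upT_regular hD θ hf hg) (by simp)
  have hp : ∀ i, part B (x i) 1 = if χ i ∈ B then x i 1 else 0 := fun i => by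
    rw [hχ i, part_smul, Pi.smul_apply, smul_eq_mul]
  have m2 : χ 2 ∈ B := by
    by_contra h
    have e := hpart s1
    rw [hx.th1, part_add, part_add, part_neg, hp, hp, hp, if_pos (m 0 (by simp)), if_pos (m 1 (by simp)),
      if_neg h, k0, k1] at e
    push_cast at e
    exact hB0 (by exact_mod_cast (show (Bd : ℂ) = 0 by linear_combination -e))
  have m3 : χ 3 ∈ B := by
    by_contra h
    have e := hpart s1'
    rw [hx.th1', part_add, part_add, hp, hp, hp, if_pos (m 1 (by simp)), if_pos (m 5 (by simp)),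
      if_neg h, k1, k5] at e
    push_cast at e
    exact hC0 (by exact_mod_cast (show (C : ℂ) = 0 by linear_combination -e))
  have hv : ∀ i, x i z = (P i : ℂ) / 2 * (1 + (D.Q : ℂ)) + (colB th i : ℂ) / 2 * (1 - (D.Q : ℂ)) := by
    intro i
    have hmem : χ i ∈ B := by
      fin_cases i
      exacts [m 0 (by simp), m 1 (by simp), m2, m3, m 4 (by simp), m 5 (by simp)]
    have h1 := (hb (χ i) (ε i)).1 hmem
    rw [← hχ, hP i, hR i] at h1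
    exact h1
  have q0 := hv 0
  have q1 := hv 1
  have q2 := hv 2
  have q3 := hv 3
  have q4 := hv 4
  have q5 := hv 5
  simp only [P, colO, colB, Matrix.cons_val_zero, Matrix.cons_val_one, Matrix.cons_val] at q0 q1 q2 q3 q4 q5
  refine ⟨?_, ?_⟩
  · refine ⟨th, hth', hth, ?_⟩
    rw [q4]
    fin_cases j <;> simp [colK] <;> push_cast <;> ring
  rcases hcase with ⟨rfl, h2⟩ | ⟨rfl, h4⟩
  · left
    refine ⟨h2, by rw [hδ]; norm_num, ?_, ?_, ?_, ?_, ?_⟩ <;>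
      simp only [q0, q1, q2, q3, q5] <;> push_cast <;> ring
  · right
    refine ⟨h4, by rw [hδ]; norm_num, ?_⟩
    fin_cases j
    · left
      refine ⟨?_, ?_, ?_, ?_, ?_⟩ <;> simp [q0, q1, q2, q3, q5, colK] <;> push_cast <;> ring
    · right; left
      refine ⟨?_, ?_, ?_, ?_, ?_⟩ <;> simp [q0, q1, q2, q3, q5, colK] <;> push_cast <;> ring
    · right; right
      refine ⟨?_, ?_, ?_, ?_, ?_⟩ <;> simp [q0, q1, q2, q3, q5, colK] <;> push_cast <;> ring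

end CfsgLib.BrauerTwist
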